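import Cfsg.Agent.Lib.Helper29.ExtrL.Defs

/-!
# EXTRACTION-L: shared basic lemmas (monomial matrices, diagonal elements)
-/

set_option autoImplicit false

namespace Cfsg.Agent.Lib.Helper29.ExtrL

open Matrix

variable {ι : Type} [Fintype ι] [DecidableEq ι] {F : Type*} [Field F]

theorem isMono_one : IsMono (1 : Matrix ι ι F) := by
  intro a
  refine ⟨a, fun i hi => ?_⟩
  rw [Matrix.one_apply_ne hi]

theorem isMono_mul {g h : Matrix ι ι F} (hg : IsMono g) (hh : IsMono h) : IsMono (g * h) := by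
  intro a
  obtain ⟨k, hk⟩ := hh a
  obtain ⟨l, hl⟩ := hg k
  refine ⟨l, fun i hi => ?_⟩
  rw [Matrix.mul_apply]
  apply Finset.sum_eq_zero
  intro j _
  by_cases hjk : j = k
  · subst hjk
    rw [hl i hi, zero_mul]
  · rw [hk j hjk, mul_zero]

/-- entries of `g * g⁻¹` and `g⁻¹ * g`. -/
theorem gl_mul_inv_apply (g : Matrix.GeneralLinearGroup ι F) (i j : ι) :
    ∑ k, (g : Matrix ι ι F) i k * ((g⁻¹ : Matrix.GeneralLinearGroup ι F) : Matrix ι ι F) k j
      = if i = j then 1 else 0 := by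
  have h : ((g * g⁻¹ : Matrix.GeneralLinearGroup ι F) : Matrix ι ι F) i j = (1 : Matrix ι ι F) i j := by
    rw [mul_inv_cancel]; rfl
  rw [Units.val_mul, Matrix.mul_apply] at h
  rw [h, Matrix.one_apply]

theorem gl_inv_mul_apply (g : Matrix.GeneralLinearGroup ι F) (i j : ι) :
    ∑ k, ((g⁻¹ : Matrix.GeneralLinearGroup ι F) : Matrix ι ι F) i k * (g : Matrix ι ι F) k j
      = if i = j then 1 else 0 := by
  have h : ((g⁻¹ * g : Matrix.GeneralLinearGroup ι F) : Matrix ι ι F) i j = (1 : Matrix ι ι F) i j := by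
    rw [inv_mul_cancel]; rfl
  rw [Units.val_mul, Matrix.mul_apply] at h
  rw [h, Matrix.one_apply]

/-- no column of an invertible matrix is zero. -/
theorem gl_col_ne_zero (g : Matrix.GeneralLinearGroup ι F) (a : ι) :
    ∃ i, (g : Matrix ι ι F) i a ≠ 0 := by
  by_contra hcon
  push Not at hcon
  have h := gl_inv_mul_apply g a a
  rw [if_pos rfl] at h
  have h0 : ∑ k, ((g⁻¹ : Matrix.GeneralLinearGroup ι F) : Matrix ι ι F) a k * (g : Matrix ι ι F) k a = 0 :=
    Finset.sum_eq_zero (fun k _ => by rw [hcon k, mul_zero])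
  rw [h0] at h
  exact zero_ne_one h

/-- no row of an invertible matrix is zero. -/
theorem gl_row_ne_zero (g : Matrix.GeneralLinearGroup ι F) (i : ι) :
    ∃ a, (g : Matrix ι ι F) i a ≠ 0 := by
  by_contra hcon
  push Not at hcon
  have h := gl_mul_inv_apply g i i
  rw [if_pos rfl] at h
  have h0 : ∑ k, (g : Matrix ι ι F) i k * ((g⁻¹ : Matrix.GeneralLinearGroup ι F) : Matrix ι ι F) k i = 0 :=
    Finset.sum_eq_zero (fun k _ => by rw [hcon k, zero_mul])
  rw [h0] at h
  exact zero_ne_one h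

/-- two distinct columns of an invertible matrix are not supported on the same single row. -/
theorem gl_colAt_inj (g : Matrix.GeneralLinearGroup ι F) {a b k : ι}
    (ha : ColAt (g : Matrix ι ι F) a k) (hb : ColAt (g : Matrix ι ι F) b k) : a = b := by
  by_contra hab
  -- row a of g⁻¹ times columns
  have hka : (g : Matrix ι ι F) k a ≠ 0 := by
    obtain ⟨i, hi⟩ := gl_col_ne_zero g a
    by_cases hik : i = k
    · subst hik; exact hi
    · exact (hi (ha i hik)).elim
  have h1 := gl_inv_mul_apply g a a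
  rw [if_pos rfl, Finset.sum_eq_single k (fun j _ hj => by rw [ha j hj, mul_zero])
    (fun h => (h (Finset.mem_univ k)).elim)] at h1
  have h2 := gl_inv_mul_apply g a b
  rw [if_neg hab, Finset.sum_eq_single k (fun j _ hj => by rw [hb j hj, mul_zero])
    (fun h => (h (Finset.mem_univ k)).elim)] at h2
  have hkb : (g : Matrix ι ι F) k b ≠ 0 := by
    obtain ⟨i, hi⟩ := gl_col_ne_zero g b
    by_cases hik : i = k
    · subst hik; exact hi
    · exact (hi (hb i hik)).elim
  have h3 : ((g⁻¹ : Matrix.GeneralLinearGroup ι F) : Matrix ι ι F) a k = 0 := by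
    rcases mul_eq_zero.mp h2 with h | h
    · exact h
    · exact (hkb h).elim
  rw [h3, zero_mul] at h1
  exact zero_ne_one h1

/-- the inverse of an invertible monomial matrix is monomial. -/
theorem isMono_inv (g : Matrix.GeneralLinearGroup ι F) (hg : IsMono (g : Matrix ι ι F)) :
    IsMono ((g⁻¹ : Matrix.GeneralLinearGroup ι F) : Matrix ι ι F) := by
  classical
  choose σ hσ using hg
  have hinj : Function.Injective σ := by
    intro a b hab
    exact gl_colAt_inj g (hσ a) (hab ▸ hσ b)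
  have hbij : Function.Bijective σ := Finite.injective_iff_bijective.mp hinj
  intro k
  obtain ⟨a, rfl⟩ := hbij.2 k
  refine ⟨a, fun b hb => ?_⟩
  -- (g⁻¹ g)_{b a} = 0 = g⁻¹_{b, σ a} g_{σ a, a}
  have h2 := gl_inv_mul_apply g b a
  rw [if_neg hb, Finset.sum_eq_single (σ a) (fun j _ hj => by rw [hσ a j hj, mul_zero])
    (fun h => (h (Finset.mem_univ _)).elim)] at h2
  have hka : (g : Matrix ι ι F) (σ a) a ≠ 0 := by
    obtain ⟨i, hi⟩ := gl_col_ne_zero g a
    by_cases hik : i = σ a
    · rw [hik] at hi; exact hi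
    · exact (hi (hσ a i hik)).elim
  rcases mul_eq_zero.mp h2 with h | h
  · exact h
  · exact (hka h).elim

theorem isMono_inv_iff (g : Matrix.GeneralLinearGroup ι F) :
    IsMono ((g⁻¹ : Matrix.GeneralLinearGroup ι F) : Matrix ι ι F) ↔ IsMono (g : Matrix ι ι F) := by
  constructor
  · intro h
    have := isMono_inv g⁻¹ h
    rwa [inv_inv] at this
  · exact isMono_inv g

/-- the invertible diagonal matrix with entries `d`. -/
noncomputable def dg (d : ι → Fˣ) : Matrix.GeneralLinearGroup ι F :=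
  ⟨Matrix.diagonal (fun i => (d i : F)), Matrix.diagonal (fun i => (((d i)⁻¹ : Fˣ) : F)),
    by rw [Matrix.diagonal_mul_diagonal]; simp,
    by rw [Matrix.diagonal_mul_diagonal]; simp⟩

@[simp] theorem dg_val (d : ι → Fˣ) :
    ((dg d : Matrix.GeneralLinearGroup ι F) : Matrix ι ι F) = Matrix.diagonal (fun i => (d i : F)) := rfl

theorem dg_inv_val (d : ι → Fˣ) :
    (((dg d)⁻¹ : Matrix.GeneralLinearGroup ι F) : Matrix ι ι F)
      = Matrix.diagonal (fun i => (((d i)⁻¹ : Fˣ) : F)) := rfl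

theorem dg_apply (d : ι → Fˣ) (i j : ι) :
    ((dg d : Matrix.GeneralLinearGroup ι F) : Matrix ι ι F) i j = if i = j then (d i : F) else 0 := by
  rw [dg_val, Matrix.diagonal_apply]

theorem isMono_dg (d : ι → Fˣ) : IsMono ((dg d : Matrix.GeneralLinearGroup ι F) : Matrix ι ι F) := by
  intro a
  refine ⟨a, fun i hi => ?_⟩
  rw [dg_apply, if_neg hi]

theorem det_dg (d : ι → Fˣ) :
    ((dg d : Matrix.GeneralLinearGroup ι F) : Matrix ι ι F).det = ∏ i, (d i : F) := by
  rw [dg_val, Matrix.det_diagonal]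

/-- entries of `dg d * g` and `g * dg d`. -/
theorem dg_mul_apply (d : ι → Fˣ) (g : Matrix ι ι F) (i j : ι) :
    (((dg d : Matrix.GeneralLinearGroup ι F) : Matrix ι ι F) * g) i j = (d i : F) * g i j := by
  rw [dg_val, Matrix.diagonal_mul]

theorem mul_dg_apply (d : ι → Fˣ) (g : Matrix ι ι F) (i j : ι) :
    (g * ((dg d : Matrix.GeneralLinearGroup ι F) : Matrix ι ι F)) i j = g i j * (d j : F) := by
  rw [dg_val, Matrix.mul_diagonal]

/-- `T_{ij}(e) = d_i(e) d_j(e⁻¹)`. -/
noncomputable def Tij (i j : ι) (e : Fˣ) : Matrix.GeneralLinearGroup ι F :=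
  dg (fun l => if l = i then e else if l = j then e⁻¹ else 1)

theorem det_Tij {i j : ι} (hij : i ≠ j) (e : Fˣ) :
    ((Tij i j e : Matrix.GeneralLinearGroup ι F) : Matrix ι ι F).det = 1 := by
  unfold Tij
  rw [det_dg]
  have h : ∀ l : ι, (((if l = i then e else if l = j then e⁻¹ else 1 : Fˣ)) : F)
      = (if l = i then (e : F) else 1) * (if l = j then ((e⁻¹ : Fˣ) : F) else 1) := by
    intro l
    by_cases hli : l = i
    · subst hli; simp [hij]
    · by_cases hlj : l = j
      · subst hlj; simp [hli]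
      · simp [hli, hlj]
  rw [Finset.prod_congr rfl (fun l _ => h l), Finset.prod_mul_distrib,
    Finset.prod_ite_eq' Finset.univ i, Finset.prod_ite_eq' Finset.univ j]
  simp

theorem Tij_mem {M : Subgroup (Matrix.GeneralLinearGroup ι F)} (hN : HasMonoSL M) {i j : ι}
    (hij : i ≠ j) (e : Fˣ) : Tij i j e ∈ M :=
  hN _ (isMono_dg _) (det_Tij hij e)

/-- Remark (K): under `C0`, an element of `M` fixing a column of `g ∈ M` up to a scalar is conjugated
by `g` into the monomial matrices. -/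
theorem c0_conj {M : Subgroup (Matrix.GeneralLinearGroup ι F)} (hC0 : C0 M)
    {g n₁ : Matrix.GeneralLinearGroup ι F} (hg : g ∈ M) (hn₁ : n₁ ∈ M) (a : ι) (c : F)
    (hfix : ∀ i, ((n₁ : Matrix ι ι F) * (g : Matrix ι ι F)) i a = c * (g : Matrix ι ι F) i a) :
    IsMono ((g⁻¹ * n₁ * g : Matrix.GeneralLinearGroup ι F) : Matrix ι ι F) := by
  apply hC0 _ (M.mul_mem (M.mul_mem (M.inv_mem hg) hn₁) hg)
  refine ⟨a, a, fun i hi => ?_⟩
  rw [mul_assoc, Units.val_mul, Matrix.mul_apply]
  rw [Finset.sum_congr rfl (fun k _ => by rw [Units.val_mul, hfix k])]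
  rw [Finset.sum_congr rfl (fun k _ => by rw [mul_left_comm])]
  rw [← Finset.mul_sum, gl_inv_mul_apply, if_neg hi, mul_zero]

end Cfsg.Agent.Lib.Helper29.ExtrL
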