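import Cfsg.Agent.Lib.Helper29.ExtrL.Basic

/-!
# EXTRACTION-L, pieces G1, G2: zero patterns in overgroups of the diagonal group
-/

set_option autoImplicit false

namespace Cfsg.Agent.Lib.Helper29.ExtrL

open Matrix

variable {κ : Type} [Fintype κ] [DecidableEq κ] {F : Type*} [Field F]

/-- rank-one perturbation of the identity. -/
def PP (a b : κ → F) : Matrix κ κ F := 1 + vecMulVec a b

theorem PP_apply (a b : κ → F) (i j : κ) : PP a b i j = (if i = j then 1 else 0) + a i * b j := by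
  unfold PP
  rw [Matrix.add_apply, Matrix.one_apply, vecMulVec_apply]

theorem PP_mul (a b a' b' : κ → F) :
    PP a b * PP a' b' = 1 + vecMulVec a b + vecMulVec a' b' + vecMulVec a ((b ⬝ᵥ a') • b') := by
  unfold PP
  rw [Matrix.add_mul, Matrix.mul_add, Matrix.mul_add, Matrix.one_mul, Matrix.one_mul,
    Matrix.mul_one, vecMulVec_mul_vecMulVec]
  abel

theorem PP_mul_same_axis (a a' b : κ → F) :
    PP a b * PP a' b = PP (a + a' + (b ⬝ᵥ a') • a) b := by
  rw [PP_mul]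
  ext i j
  simp only [PP_apply, Matrix.add_apply, Matrix.one_apply, vecMulVec_apply, Pi.add_apply,
    Pi.smul_apply, smul_eq_mul]
  ring

theorem PP_mul_same_centre (a b b' : κ → F) :
    PP a b * PP a b' = PP a (b + b' + (b ⬝ᵥ a) • b') := by
  rw [PP_mul]
  ext i j
  simp only [PP_apply, Matrix.add_apply, Matrix.one_apply, vecMulVec_apply, Pi.add_apply,
    Pi.smul_apply, smul_eq_mul]
  ring

/-- `d_k(e)`. -/
noncomputable def dk (k : κ) (e : Fˣ) : Matrix.GeneralLinearGroup κ F :=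
  dg (fun j => if j = k then e else 1)

theorem dk_mem {H : Subgroup (Matrix.GeneralLinearGroup κ F)} (hD : HasDiag H) (k : κ) (e : Fˣ) :
    dk k e ∈ H := by
  apply hD
  intro i j hij
  unfold dk
  rw [dg_apply, if_neg hij]

theorem dk_inv (k : κ) (e : Fˣ) : (dk k e)⁻¹ = dk k e⁻¹ := by
  apply Units.ext
  unfold dk
  rw [dg_inv_val, dg_val]
  congr 1
  funext i
  by_cases h : i = k <;> simp [h]

/-- conjugating `d_k(e)` by `g`. -/
theorem conj_dk_val (g : Matrix.GeneralLinearGroup κ F) (k : κ) (e : Fˣ) :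
    ((g * dk k e * g⁻¹ : Matrix.GeneralLinearGroup κ F) : Matrix κ κ F)
      = PP (fun i => ((e : F) - 1) * (g : Matrix κ κ F) i k)
          (fun j => ((g⁻¹ : Matrix.GeneralLinearGroup κ F) : Matrix κ κ F) k j) := by
  ext i j
  rw [Units.val_mul, Units.val_mul, Matrix.mul_apply, PP_apply]
  unfold dk
  rw [Finset.sum_congr rfl (fun m _ => by rw [mul_dg_apply])]
  rw [← gl_mul_inv_apply g i j]
  have hd : ∀ m : κ, (((if m = k then e else 1 : Fˣ)) : F)
      = 1 + (if m = k then (e : F) - 1 else 0) := by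
    intro m
    by_cases h1 : m = k <;> simp [h1]
  rw [Finset.sum_congr rfl (fun m _ => by rw [hd m])]
  simp only [mul_add, add_mul, mul_one, Finset.sum_add_distrib, mul_ite, ite_mul, mul_zero,
    zero_mul, Finset.sum_ite_eq', Finset.mem_univ, if_true]
  ring

/-- conjugating a rank-one perturbation by a diagonal matrix. -/
theorem dg_conj_PP (x : Matrix.GeneralLinearGroup κ F) (d : κ → Fˣ) (a b : κ → F)
    (hx : (x : Matrix κ κ F) = PP a b) :
    ((dg d * x * (dg d)⁻¹ : Matrix.GeneralLinearGroup κ F) : Matrix κ κ F)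
      = PP (fun i => (d i : F) * a i) (fun j => b j * (((d j)⁻¹ : Fˣ) : F)) := by
  ext i j
  rw [Units.val_mul, Units.val_mul, dg_inv_val, Matrix.mul_diagonal, dg_mul_apply, hx, PP_apply,
    PP_apply]
  by_cases hij : i = j
  · subst hij
    rw [if_pos rfl]
    have : (d i : F) * (((d i)⁻¹ : Fˣ) : F) = 1 := by
      rw [← Units.val_mul, mul_inv_cancel, Units.val_one]
    linear_combination this
  · rw [if_neg hij]
    ring

/-- conjugating a rank-one perturbation by `d_m(e)`. -/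
theorem dk_conj_PP (x : Matrix.GeneralLinearGroup κ F) (m : κ) (e : Fˣ) (a b : κ → F)
    (hx : (x : Matrix κ κ F) = PP a b) :
    ((dk m e * x * (dk m e)⁻¹ : Matrix.GeneralLinearGroup κ F) : Matrix κ κ F)
      = PP (fun i => (if i = m then (e : F) else 1) * a i)
          (fun j => b j * (if j = m then (e : F)⁻¹ else 1)) := by
  unfold dk
  rw [dg_conj_PP x _ a b hx]
  congr 1
  · funext i
    by_cases hi : i = m <;> simp [hi]
  · funext j
    by_cases hj : j = m <;> simp [hj]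

theorem PP_single_eq_transvection (l m : κ) (ξ : F) :
    PP (fun i => if i = l then ξ else 0) (fun j => if j = m then (1 : F) else 0)
      = Matrix.transvection l m ξ := by
  ext i j
  rw [PP_apply, Matrix.transvection, Matrix.add_apply, Matrix.one_apply, Matrix.single_apply]
  by_cases h1 : i = l
  · by_cases h2 : j = m
    · simp [h1, h2]
    · have : ¬ (m = j) := fun h => h2 h.symm
      simp [h1, h2, this]
  · have : ¬ (l = i) := fun h => h1 h.symm
    simp [h1, this]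

/-- to show `(x * y⁻¹).val = T` it suffices that `T * y.val = x.val`. -/
theorem val_mul_inv_eq {x y : Matrix.GeneralLinearGroup κ F} {T : Matrix κ κ F}
    (h : T * (y : Matrix κ κ F) = (x : Matrix κ κ F)) :
    ((x * y⁻¹ : Matrix.GeneralLinearGroup κ F) : Matrix κ κ F) = T := by
  rw [Units.val_mul, ← h, Matrix.mul_assoc, ← Units.val_mul, mul_inv_cancel, Units.val_one,
    Matrix.mul_one]

/-- to show `(y⁻¹ * x).val = T` it suffices that `y.val * T = x.val`. -/
theorem val_inv_mul_eq {x y : Matrix.GeneralLinearGroup κ F} {T : Matrix κ κ F}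
    (h : (y : Matrix κ κ F) * T = (x : Matrix κ κ F)) :
    ((y⁻¹ * x : Matrix.GeneralLinearGroup κ F) : Matrix κ κ F) = T := by
  rw [Units.val_mul, ← h, ← Matrix.mul_assoc, ← Units.val_mul, inv_mul_cancel, Units.val_one,
    Matrix.one_mul]

/-- an element outside `{0, 1}`. -/
theorem exists_unit_ne_one [Fintype F] (hq : 3 ≤ Fintype.card F) : ∃ e : Fˣ, (e : F) ≠ 1 := by
  classical
  by_contra hcon
  push Not at hcon
  have hsub : (Finset.univ : Finset F) ⊆ {0, 1} := by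
    intro x _
    by_cases hx : x = 0
    · simp [hx]
    · have := hcon (Units.mk0 x hx)
      rw [Units.val_mk0] at this
      simp [this]
  have := Finset.card_le_card hsub
  rw [Finset.card_univ] at this
  have h2 : ({0, 1} : Finset F).card ≤ 2 := Finset.card_le_two
  omega

theorem PP_smul_comm (c : F) (a b : κ → F) :
    PP (fun i => c * a i) b = PP a (fun j => c * b j) := by
  ext i j
  rw [PP_apply, PP_apply]
  ring

theorem conj_inv_eq (h d : Matrix.GeneralLinearGroup κ F) :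
    (h * d * h⁻¹)⁻¹ = h * d⁻¹ * h⁻¹ := by
  rw [_root_.mul_inv_rev, _root_.mul_inv_rev, inv_inv, mul_assoc]

/-- (T1): a nonzero entry of column `k` of `h` at a zero of row `k` of `h⁻¹` gives an elementary
transvection. -/
theorem gl_T1 [Fintype F] (hq : 3 ≤ Fintype.card F) (H : Subgroup (Matrix.GeneralLinearGroup κ F))
    (hD : HasDiag H) (h : Matrix.GeneralLinearGroup κ F) (hh : h ∈ H) (k l : κ)
    (hu : (h : Matrix κ κ F) l k ≠ 0)
    (hφ : ((h⁻¹ : Matrix.GeneralLinearGroup κ F) : Matrix κ κ F) k l = 0) : HasElemTv H := by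
  obtain ⟨e, he⟩ := exists_unit_ne_one (F := F) hq
  have he0 : (e : F) ≠ 0 := e.ne_zero
  have hinv : ((e⁻¹ : Fˣ) : F) = (e : F)⁻¹ := Units.val_inv_eq_inv_val e
  have hee : (e : F) * (e : F)⁻¹ = 1 := mul_inv_cancel₀ he0
  -- abbreviations
  obtain ⟨u, hudef⟩ : ∃ u : κ → F, u = fun i => (h : Matrix κ κ F) i k := ⟨_, rfl⟩
  obtain ⟨φ, hφdef⟩ : ∃ φ : κ → F,
      φ = fun j => ((h⁻¹ : Matrix.GeneralLinearGroup κ F) : Matrix κ κ F) k j := ⟨_, rfl⟩
  have hφu : φ ⬝ᵥ u = 1 := by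
    rw [hφdef, hudef]
    have := gl_inv_mul_apply h k k
    rw [if_pos rfl] at this
    exact this
  have hφl : φ l = 0 := by rw [hφdef]; exact hφ
  have hul : u l ≠ 0 := by rw [hudef]; exact hu
  -- ρ and ρ⁻¹
  have hρ : ((h * dk k e * h⁻¹ : Matrix.GeneralLinearGroup κ F) : Matrix κ κ F)
      = PP (fun i => ((e : F) - 1) * u i) φ := by rw [conj_dk_val, hudef, hφdef]
  have hρ' : ((h * dk k e⁻¹ * h⁻¹ : Matrix.GeneralLinearGroup κ F) : Matrix κ κ F)
      = PP (fun i => ((e : F)⁻¹ - 1) * u i) φ := by rw [conj_dk_val, hudef, hφdef, hinv]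
  have hρH : h * dk k e * h⁻¹ ∈ H := H.mul_mem (H.mul_mem hh (dk_mem hD k e)) (H.inv_mem hh)
  have hρ'H : h * dk k e⁻¹ * h⁻¹ ∈ H := H.mul_mem (H.mul_mem hh (dk_mem hD k e⁻¹)) (H.inv_mem hh)
  -- σ
  have hσ := dk_conj_PP (h * dk k e * h⁻¹) l e _ _ hρ
  have hσH : dk l e * (h * dk k e * h⁻¹) * (dk l e)⁻¹ ∈ H :=
    H.mul_mem (H.mul_mem (dk_mem hD l e) hρH) (H.inv_mem (dk_mem hD l e))
  have hφ2 : (fun j => φ j * (if j = l then (e : F)⁻¹ else 1)) = φ := by
    funext j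
    by_cases hj : j = l
    · subst hj; rw [hφl, zero_mul]
    · rw [if_neg hj, mul_one]
  rw [hφ2] at hσ
  -- τ = σ ρ⁻¹
  obtain ⟨c, hcdef⟩ : ∃ c : F, c = u l * (1 - (e : F)⁻¹) * ((e : F) - 1) := ⟨_, rfl⟩
  have hc0 : c ≠ 0 := by
    rw [hcdef]
    refine mul_ne_zero (mul_ne_zero hul ?_) (sub_ne_zero.mpr he)
    intro hh0
    apply he
    have h1 : (e : F)⁻¹ = 1 := by linear_combination -hh0
    rw [h1, mul_one] at hee
    exact hee
  have hτ : ((dk l e * (h * dk k e * h⁻¹) * (dk l e)⁻¹ * (h * dk k e⁻¹ * h⁻¹) :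
      Matrix.GeneralLinearGroup κ F) : Matrix κ κ F)
      = PP (fun i => if i = l then c else 0) φ := by
    rw [Units.val_mul, hρ', hσ, PP_mul_same_axis]
    congr 1
    funext i
    have hdot : φ ⬝ᵥ (fun i => ((e : F)⁻¹ - 1) * u i) = (e : F)⁻¹ - 1 := by
      have : (fun i => ((e : F)⁻¹ - 1) * u i) = ((e : F)⁻¹ - 1) • u := by
        funext i; rw [Pi.smul_apply, smul_eq_mul]
      rw [this, dotProduct_smul, hφu, smul_eq_mul, mul_one]
    rw [hdot]
    simp only [Pi.add_apply, Pi.smul_apply, smul_eq_mul]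
    by_cases hi : i = l
    · subst hi
      rw [if_pos rfl, if_pos rfl, hcdef]
      field_simp
      ring
    · rw [if_neg hi, if_neg hi]
      field_simp
      ring
  have hτH : dk l e * (h * dk k e * h⁻¹) * (dk l e)⁻¹ * (h * dk k e⁻¹ * h⁻¹) ∈ H :=
    H.mul_mem hσH hρ'H
  -- m with φ m ≠ 0
  obtain ⟨m, hm⟩ : ∃ m, φ m ≠ 0 := by
    rw [hφdef]
    exact gl_row_ne_zero h⁻¹ k
  have hml : m ≠ l := by
    rintro rfl
    exact hm hφl
  -- τ'
  have hτ' := dk_conj_PP _ m e _ _ hτ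
  have hτ'H : dk m e * (dk l e * (h * dk k e * h⁻¹) * (dk l e)⁻¹ * (h * dk k e⁻¹ * h⁻¹)) *
      (dk m e)⁻¹ ∈ H :=
    H.mul_mem (H.mul_mem (dk_mem hD m e) hτH) (H.inv_mem (dk_mem hD m e))
  refine ⟨l, m, c * ((e : F)⁻¹ - 1) * φ m, Ne.symm hml, ?_,
    dk m e * (dk l e * (h * dk k e * h⁻¹) * (dk l e)⁻¹ * (h * dk k e⁻¹ * h⁻¹)) * (dk m e)⁻¹ *
      (dk l e * (h * dk k e * h⁻¹) * (dk l e)⁻¹ * (h * dk k e⁻¹ * h⁻¹))⁻¹,
    H.mul_mem hτ'H (H.inv_mem hτH), ?_⟩
  · refine mul_ne_zero (mul_ne_zero hc0 ?_) hm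
    intro hh0
    apply he
    have h1 : (e : F)⁻¹ = 1 := by linear_combination hh0
    rw [h1, mul_one] at hee
    exact hee
  · apply val_mul_inv_eq
    rw [hτ', hτ, ← PP_single_eq_transvection, PP_mul]
    ext i j
    simp only [PP_apply, Matrix.add_apply, Matrix.one_apply, vecMulVec_apply, Pi.smul_apply,
      smul_eq_mul]
    have hdot : (fun j => if j = m then (1 : F) else 0) ⬝ᵥ (fun i => if i = l then c else 0) = 0 := by
      rw [dotProduct]
      apply Finset.sum_eq_zero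
      intro x _
      by_cases hx : x = m
      · subst hx; rw [if_neg hml, mul_zero]
      · rw [if_neg hx, zero_mul]
    rw [hdot]
    have hlm : l ≠ m := Ne.symm hml
    by_cases hi : i = l
    · by_cases hj : j = m
      · rw [hi, hj]
        simp only [if_true, if_neg hlm]
        ring
      · rw [hi]
        simp only [if_true, if_neg hj, if_neg hlm]
        ring
    · simp only [if_neg hi]
      ring

/-- (T2): a zero entry of column `k` of `h` at a nonzero entry of row `k` of `h⁻¹` gives an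
elementary transvection. -/
theorem gl_T2 [Fintype F] (hq : 3 ≤ Fintype.card F) (H : Subgroup (Matrix.GeneralLinearGroup κ F))
    (hD : HasDiag H) (h : Matrix.GeneralLinearGroup κ F) (hh : h ∈ H) (k l : κ)
    (hu : (h : Matrix κ κ F) l k = 0)
    (hφ : ((h⁻¹ : Matrix.GeneralLinearGroup κ F) : Matrix κ κ F) k l ≠ 0) : HasElemTv H := by
  obtain ⟨e, he⟩ := exists_unit_ne_one (F := F) hq
  have he0 : (e : F) ≠ 0 := e.ne_zero
  have hinv : ((e⁻¹ : Fˣ) : F) = (e : F)⁻¹ := Units.val_inv_eq_inv_val e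
  have hee : (e : F) * (e : F)⁻¹ = 1 := mul_inv_cancel₀ he0
  have hinv1 : (e : F)⁻¹ ≠ 1 := by
    intro h1
    rw [h1, mul_one] at hee
    exact he hee
  obtain ⟨u, hudef⟩ : ∃ u : κ → F, u = fun i => (h : Matrix κ κ F) i k := ⟨_, rfl⟩
  obtain ⟨φ, hφdef⟩ : ∃ φ : κ → F,
      φ = fun j => ((h⁻¹ : Matrix.GeneralLinearGroup κ F) : Matrix κ κ F) k j := ⟨_, rfl⟩
  have hφu : φ ⬝ᵥ u = 1 := by
    rw [hφdef, hudef]
    have := gl_inv_mul_apply h k k
    rw [if_pos rfl] at this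
    exact this
  have hφl : φ l ≠ 0 := by rw [hφdef]; exact hφ
  have hul : u l = 0 := by rw [hudef]; exact hu
  -- ρ and ρ⁻¹, scalars on the axis side
  have hρ : ((h * dk k e * h⁻¹ : Matrix.GeneralLinearGroup κ F) : Matrix κ κ F)
      = PP u (fun j => ((e : F) - 1) * φ j) := by
    rw [conj_dk_val, ← PP_smul_comm, hudef, hφdef]
  have hρ' : ((h * dk k e⁻¹ * h⁻¹ : Matrix.GeneralLinearGroup κ F) : Matrix κ κ F)
      = PP u (fun j => ((e : F)⁻¹ - 1) * φ j) := by
    rw [conj_dk_val, ← PP_smul_comm, hudef, hφdef, hinv]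
  have hρH : h * dk k e * h⁻¹ ∈ H := H.mul_mem (H.mul_mem hh (dk_mem hD k e)) (H.inv_mem hh)
  have hρ'H : h * dk k e⁻¹ * h⁻¹ ∈ H := H.mul_mem (H.mul_mem hh (dk_mem hD k e⁻¹)) (H.inv_mem hh)
  -- σ
  have hσ := dk_conj_PP (h * dk k e * h⁻¹) l e _ _ hρ
  have hσH : dk l e * (h * dk k e * h⁻¹) * (dk l e)⁻¹ ∈ H :=
    H.mul_mem (H.mul_mem (dk_mem hD l e) hρH) (H.inv_mem (dk_mem hD l e))
  have hu2 : (fun i => (if i = l then (e : F) else 1) * u i) = u := by
    funext i
    by_cases hi : i = l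
    · subst hi; rw [hul, mul_zero]
    · rw [if_neg hi, one_mul]
  rw [hu2] at hσ
  -- τ = ρ⁻¹ σ
  obtain ⟨c, hcdef⟩ : ∃ c : F, c = φ l * (1 - (e : F)⁻¹) * ((e : F)⁻¹ - 1) := ⟨_, rfl⟩
  have hc0 : c ≠ 0 := by
    rw [hcdef]
    exact mul_ne_zero (mul_ne_zero hφl (sub_ne_zero.mpr (Ne.symm hinv1))) (sub_ne_zero.mpr hinv1)
  have hτ : (((h * dk k e⁻¹ * h⁻¹) * (dk l e * (h * dk k e * h⁻¹) * (dk l e)⁻¹) :
      Matrix.GeneralLinearGroup κ F) : Matrix κ κ F)
      = PP u (fun j => if j = l then c else 0) := by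
    rw [Units.val_mul, hρ', hσ, PP_mul_same_centre]
    congr 1
    funext j
    have hdot : (fun j => ((e : F)⁻¹ - 1) * φ j) ⬝ᵥ u = (e : F)⁻¹ - 1 := by
      have : (fun j => ((e : F)⁻¹ - 1) * φ j) = ((e : F)⁻¹ - 1) • φ := by
        funext i; rw [Pi.smul_apply, smul_eq_mul]
      rw [this, smul_dotProduct, hφu, smul_eq_mul, mul_one]
    rw [hdot]
    simp only [Pi.add_apply, Pi.smul_apply, smul_eq_mul]
    by_cases hj : j = l
    · subst hj
      rw [if_pos rfl, if_pos rfl, hcdef]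
      field_simp
      ring
    · rw [if_neg hj, if_neg hj]
      field_simp
      ring
  have hτH : (h * dk k e⁻¹ * h⁻¹) * (dk l e * (h * dk k e * h⁻¹) * (dk l e)⁻¹) ∈ H :=
    H.mul_mem hρ'H hσH
  -- m with u m ≠ 0
  obtain ⟨m, hm⟩ : ∃ m, u m ≠ 0 := by
    rw [hudef]
    exact gl_col_ne_zero h k
  have hml : m ≠ l := by
    rintro rfl
    exact hm hul
  have hτ' := dk_conj_PP _ m e _ _ hτ
  have hτ'H : dk m e * ((h * dk k e⁻¹ * h⁻¹) * (dk l e * (h * dk k e * h⁻¹) * (dk l e)⁻¹)) *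
      (dk m e)⁻¹ ∈ H :=
    H.mul_mem (H.mul_mem (dk_mem hD m e) hτH) (H.inv_mem (dk_mem hD m e))
  refine ⟨m, l, c * ((e : F) - 1) * u m, hml, ?_,
    dk m e * ((h * dk k e⁻¹ * h⁻¹) * (dk l e * (h * dk k e * h⁻¹) * (dk l e)⁻¹)) * (dk m e)⁻¹ *
      ((h * dk k e⁻¹ * h⁻¹) * (dk l e * (h * dk k e * h⁻¹) * (dk l e)⁻¹))⁻¹,
    H.mul_mem hτ'H (H.inv_mem hτH), ?_⟩
  · exact mul_ne_zero (mul_ne_zero hc0 (sub_ne_zero.mpr he)) hm
  · apply val_mul_inv_eq
    rw [hτ', hτ, ← PP_single_eq_transvection, PP_mul]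
    ext i j
    simp only [PP_apply, Matrix.add_apply, Matrix.one_apply, vecMulVec_apply, Pi.smul_apply,
      smul_eq_mul]
    have hdot : (fun j => if j = l then (1 : F) else 0) ⬝ᵥ u = 0 := by
      rw [dotProduct]
      apply Finset.sum_eq_zero
      intro x _
      by_cases hx : x = l
      · subst hx; rw [hul, mul_zero]
      · rw [if_neg hx, zero_mul]
    rw [hdot]
    have hlm : l ≠ m := Ne.symm hml
    by_cases hj : j = l
    · by_cases hi : i = m
      · rw [hi, hj]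
        simp only [if_true, if_neg hlm, if_neg hml]
        ring
      · rw [hj]
        simp only [if_true, if_neg hi, if_neg hlm]
        ring
    · simp only [if_neg hj]
      ring

/-- Piece G1. -/
theorem gl_P1 [Fintype F]
    (hq : 3 ≤ Fintype.card F) (H : Subgroup (Matrix.GeneralLinearGroup κ F))
    (hD : HasDiag H) (hno : ¬ HasElemTv H) (h : Matrix.GeneralLinearGroup κ F) (hh : h ∈ H)
    (k l : κ) :
    (h : Matrix κ κ F) l k = 0 ↔ ((h⁻¹ : Matrix.GeneralLinearGroup κ F) : Matrix κ κ F) k l = 0 := by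
  constructor
  · intro h0
    by_contra h1
    exact hno (gl_T2 hq H hD h hh k l h0 h1)
  · intro h0
    by_contra h1
    exact hno (gl_T1 hq H hD h hh k l h1 h0)

/-- Piece G2. -/
theorem gl_P2 [Fintype F]
    (hq : 3 ≤ Fintype.card F) (H : Subgroup (Matrix.GeneralLinearGroup κ F))
    (hD : HasDiag H) (hno : ¬ HasElemTv H) (h : Matrix.GeneralLinearGroup κ F) (hh : h ∈ H)
    (k l : κ) :
    (h : Matrix κ κ F) l k * ((h⁻¹ : Matrix.GeneralLinearGroup κ F) : Matrix κ κ F) k l = 0 ∨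
    (h : Matrix κ κ F) l k * ((h⁻¹ : Matrix.GeneralLinearGroup κ F) : Matrix κ κ F) k l = 1 ∨
    2 * ((h : Matrix κ κ F) l k * ((h⁻¹ : Matrix.GeneralLinearGroup κ F) : Matrix κ κ F) k l) = 1 := by
  obtain ⟨A, hA⟩ : ∃ A : F, A = (h : Matrix κ κ F) l k *
      ((h⁻¹ : Matrix.GeneralLinearGroup κ F) : Matrix κ κ F) k l := ⟨_, rfl⟩
  rw [← hA]
  by_cases hA0 : A = 0
  · exact Or.inl hA0
  by_cases hA1 : A = 1
  · exact Or.inr (Or.inl hA1)
  right; right
  have hAA : A * A⁻¹ = 1 := mul_inv_cancel₀ hA0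
  have he0 : 1 - A⁻¹ ≠ 0 := by
    intro h0
    apply hA1
    have h1 : A⁻¹ = 1 := by linear_combination -h0
    rw [h1, mul_one] at hAA
    exact hAA
  obtain ⟨e, hedef⟩ : ∃ e : Fˣ, e = Units.mk0 (1 - A⁻¹) he0 := ⟨_, rfl⟩
  have hev : (e : F) = 1 - A⁻¹ := by rw [hedef, Units.val_mk0]
  have hinv : ((e⁻¹ : Fˣ) : F) = (e : F)⁻¹ := Units.val_inv_eq_inv_val e
  have hee : (e : F) * (e : F)⁻¹ = 1 := mul_inv_cancel₀ e.ne_zero
  have hρH : h * dk k e * h⁻¹ ∈ H := H.mul_mem (H.mul_mem hh (dk_mem hD k e)) (H.inv_mem hh)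
  have hP1 := gl_P1 hq H hD hno (h * dk k e * h⁻¹) hρH l l
  rw [conj_inv_eq, dk_inv, conj_dk_val, conj_dk_val, PP_apply, PP_apply, if_pos rfl] at hP1
  have h1 : 1 + ((e : F) - 1) * (h : Matrix κ κ F) l k *
      ((h⁻¹ : Matrix.GeneralLinearGroup κ F) : Matrix κ κ F) k l = 0 := by
    rw [mul_assoc, ← hA, hev]
    linear_combination -hAA
  have h2 := hP1.mp h1
  rw [mul_assoc, ← hA, hinv] at h2
  -- from h1, h2: e⁻¹ = e
  have h3 : ((e : F)⁻¹ - (e : F)) * A = 0 := by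
    have h1' : 1 + ((e : F) - 1) * A = 0 := by
      rw [hev]; linear_combination -hAA
    linear_combination h2 - h1'
  have h4 : (e : F)⁻¹ = (e : F) := by
    rcases mul_eq_zero.mp h3 with h | h
    · linear_combination h
    · exact (hA0 h).elim
  rw [h4] at hee
  -- e * e = 1, e ≠ 1 => e = -1
  have h5 : ((e : F) - 1) * ((e : F) + 1) = 0 := by linear_combination hee
  have hne1 : (e : F) - 1 ≠ 0 := by
    rw [hev]
    intro h0
    have : A⁻¹ = 0 := by linear_combination -h0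
    rw [this, mul_zero] at hAA
    exact zero_ne_one hAA
  have h6 : (e : F) + 1 = 0 := by
    rcases mul_eq_zero.mp h5 with h | h
    · exact (hne1 h).elim
    · exact h
  rw [hev] at h6
  -- 2 - A⁻¹ = 0 => 2 A = 1
  linear_combination A * h6 + hAA

end Cfsg.Agent.Lib.Helper29.ExtrL
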