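import Cfsg.Agent.Lib.Helper29.ExtrL.Basic

/-!
# EXTRACTION-L, piece Fc: the case `C0` is contradictory (final step)
-/

set_option autoImplicit false

namespace Cfsg.Agent.Lib.Helper29.ExtrL

open Matrix

variable {ι : Type} [Fintype ι] [DecidableEq ι] {F : Type*} [Field F]

/-- a pair of mutually inverse matrices, each with at most one zero per column and with vanishing
`2 × 2` minors (whenever the four entries are nonzero). -/
structure Good (G E : Matrix ι ι F) : Prop where
  ge : G * E = 1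
  eg : E * G = 1
  wG : ∀ a i j : ι, i ≠ j → ¬ (G i a = 0 ∧ G j a = 0)
  wE : ∀ a i j : ι, i ≠ j → ¬ (E i a = 0 ∧ E j a = 0)
  rG : ∀ a b i j : ι, a ≠ b → i ≠ j → G i a ≠ 0 → G j a ≠ 0 → G i b ≠ 0 → G j b ≠ 0 →
    G i a * G j b = G j a * G i b
  rE : ∀ a b i j : ι, a ≠ b → i ≠ j → E i a ≠ 0 → E j a ≠ 0 → E i b ≠ 0 → E j b ≠ 0 →
    E i a * E j b = E j a * E i b

namespace Good

variable {G E : Matrix ι ι F}

theorem symm (h : Good G E) : Good E G :=
  ⟨h.eg, h.ge, h.wE, h.wG, h.rE, h.rG⟩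

theorem eg_apply (h : Good G E) (i j : ι) : ∑ k, E i k * G k j = if i = j then 1 else 0 := by
  have := congrFun (congrFun h.eg i) j
  rw [Matrix.mul_apply, Matrix.one_apply] at this
  exact this

/-- a third index. -/
theorem exists_ne2 (hn : 3 ≤ Fintype.card ι) (a b : ι) : ∃ c : ι, c ≠ a ∧ c ≠ b := by
  classical
  by_contra hcon
  push Not at hcon
  have hsub : (Finset.univ : Finset ι) ⊆ {a, b} := by
    intro c _
    by_cases hca : c = a
    · simp [hca]
    · simp [hcon c hca]
  have := Finset.card_le_card hsub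
  rw [Finset.card_univ] at this
  have h2 : ({a, b} : Finset ι).card ≤ 2 := Finset.card_le_two
  omega

theorem exists_ne3 (hn : 4 ≤ Fintype.card ι) (a b c : ι) : ∃ d : ι, d ≠ a ∧ d ≠ b ∧ d ≠ c := by
  classical
  by_contra hcon
  push Not at hcon
  have hsub : (Finset.univ : Finset ι) ⊆ {a, b, c} := by
    intro d _
    by_cases hda : d = a
    · simp [hda]
    · by_cases hdb : d = b
      · simp [hdb]
      · simp [hcon d hda hdb]
  have := Finset.card_le_card hsub
  rw [Finset.card_univ] at this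
  have h2 : ({a, b, c} : Finset ι).card ≤ 3 := Finset.card_le_three
  omega

/-- if column `b` is `c` times column `a` then `G` is not invertible. -/
theorem not_prop (h : Good G E) {a b : ι} (hab : a ≠ b) (c : F) (hc : ∀ j, G j b = c * G j a) :
    False := by
  have h1 := h.eg_apply b b
  rw [if_pos rfl] at h1
  have h2 := h.eg_apply b a
  rw [if_neg hab.symm] at h2
  have : ∑ k, E b k * G k b = c * ∑ k, E b k * G k a := by
    rw [Finset.mul_sum]
    exact Finset.sum_congr rfl (fun k _ => by rw [hc k]; ring)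
  rw [h1, h2, mul_zero] at this
  exact one_ne_zero this

/-- Claim 1: two distinct columns do not have the same zero set. -/
theorem claim1 (h : Good G E) {a b : ι} (hab : a ≠ b) (hz : ∀ i, G i a = 0 ↔ G i b = 0) :
    False := by
  -- a nonzero entry of column a
  have hcol : ∃ i, G i a ≠ 0 := by
    by_contra hcon
    push Not at hcon
    have h1 := h.eg_apply a a
    rw [if_pos rfl, Finset.sum_eq_zero (fun k _ => by rw [hcon k, mul_zero])] at h1
    exact zero_ne_one h1
  obtain ⟨i0, hi0⟩ := hcol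
  have hi0b : G i0 b ≠ 0 := fun hh => hi0 ((hz i0).mpr hh)
  refine h.not_prop hab (G i0 b / G i0 a) (fun j => ?_)
  by_cases hja : G j a = 0
  · rw [hja, (hz j).mp hja, mul_zero]
  · have hjb : G j b ≠ 0 := fun hh => hja ((hz j).mpr hh)
    by_cases hj : j = i0
    · subst hj; field_simp
    · have := h.rG a b i0 j hab (Ne.symm hj) hi0 hja hi0b hjb
      field_simp
      linear_combination this

/-- Claim 2: every column has a zero. -/
theorem claim2 (hn : 4 ≤ Fintype.card ι) (h : Good G E) (a : ι) : ∃ k, G k a = 0 := by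
  by_contra hfull
  push Not at hfull
  obtain ⟨b, hba, -⟩ := exists_ne2 (by omega) a a
  have hzb : ∃ k, G k b = 0 := by
    by_contra hcon
    push Not at hcon
    exact h.claim1 (Ne.symm hba) (fun i => ⟨fun hh => (hfull i hh).elim, fun hh => (hcon i hh).elim⟩)
  obtain ⟨kb, hkb⟩ := hzb
  obtain ⟨i, hi, -⟩ := exists_ne2 (by omega) kb kb
  have hib : G i b ≠ 0 := fun hh => h.wG b i kb hi ⟨hh, hkb⟩
  have hprop : ∀ j, j ≠ kb → G j b = (G i b / G i a) * G j a := by
    intro j hj
    have hjb : G j b ≠ 0 := fun hh => h.wG b j kb hj ⟨hh, hkb⟩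
    by_cases hji : j = i
    · subst hji; field_simp [hfull j]
    · have := h.rG a b i j (Ne.symm hba) (Ne.symm hji) (hfull i) (hfull j) hib hjb
      have h1 := hfull i
      field_simp
      linear_combination this
  -- rows d ∉ {a,b} of E vanish at column kb
  have hzero : ∀ d, d ≠ a → d ≠ b → E d kb = 0 := by
    intro d hda hdb
    have h1 := h.eg_apply d b
    rw [if_neg hdb] at h1
    have h2 := h.eg_apply d a
    rw [if_neg hda] at h2
    have h3 : ∑ k, E d k * G k b
        = (G i b / G i a) * ∑ k, E d k * G k a - (G i b / G i a) * (E d kb * G kb a) := by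
      rw [Finset.mul_sum, ← Finset.sum_erase_add _ _ (Finset.mem_univ kb),
        ← Finset.sum_erase_add (f := fun k => G i b / G i a * (E d k * G k a)) _ (Finset.mem_univ kb)]
      rw [hkb, mul_zero, add_zero, add_sub_cancel_right]
      refine Finset.sum_congr rfl (fun k hk => ?_)
      rw [hprop k (Finset.ne_of_mem_erase hk)]
      ring
    rw [h1, h2, mul_zero, zero_sub, eq_comm, neg_eq_zero] at h3
    have hc : G i b / G i a ≠ 0 := div_ne_zero hib (hfull i)
    rcases mul_eq_zero.mp h3 with h4 | h4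
    · exact (hc h4).elim
    · rcases mul_eq_zero.mp h4 with h5 | h5
      · exact h5
      · exact (hfull kb h5).elim
  obtain ⟨d, hda, hdb⟩ := exists_ne2 (by omega) a b
  obtain ⟨d', hd'a, hd'b, hd'd⟩ := exists_ne3 hn a b d
  exact h.wE kb d d' (Ne.symm hd'd) ⟨hzero d hda hdb, hzero d' hd'a hd'b⟩

/-- the zero of a column is unique. -/
theorem zero_unique (h : Good G E) {a k k' : ι} (hk : G k a = 0) (hk' : G k' a = 0) : k = k' := by
  by_contra hne
  exact h.wG a k k' hne ⟨hk, hk'⟩

/-- distinct columns have distinct zeros. -/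
theorem zero_inj (h : Good G E) {a b k : ι} (hka : G k a = 0) (hkb : G k b = 0) : a = b := by
  by_contra hab
  refine h.claim1 hab (fun i => ⟨fun hh => ?_, fun hh => ?_⟩)
  · rw [h.zero_unique hh hka]; exact hkb
  · rw [h.zero_unique hh hkb]; exact hka

/-- Claim 3 (first half): the zero of column `k_a` of `E` is in row `a`. -/
theorem claim3a (hn : 4 ≤ Fintype.card ι) (h : Good G E) {a ka : ι} (hka : G ka a = 0) :
    E a ka = 0 := by
  obtain ⟨d1, hd1⟩ := h.symm.claim2 hn ka
  by_contra hne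
  have hd1a : d1 ≠ a := by
    rintro rfl
    exact hne hd1
  obtain ⟨b, hba, hbd1⟩ := exists_ne2 (by omega) a d1
  obtain ⟨kb, hkb⟩ := h.claim2 hn b
  have hkab : ka ≠ kb := by
    rintro rfl
    exact hba (h.zero_inj hkb hka)
  obtain ⟨i, hika, hikb⟩ := exists_ne2 (by omega) ka kb
  have hia : G i a ≠ 0 := fun hh => hika (h.zero_unique hh hka)
  have hib : G i b ≠ 0 := fun hh => hikb (h.zero_unique hh hkb)
  have hkba : G kb a ≠ 0 := fun hh => hkab (h.zero_unique hka hh)
  have hprop : ∀ j, j ≠ ka → j ≠ kb → G j b = (G i b / G i a) * G j a := by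
    intro j hj1 hj2
    have hja : G j a ≠ 0 := fun hh => hj1 (h.zero_unique hh hka)
    have hjb : G j b ≠ 0 := fun hh => hj2 (h.zero_unique hh hkb)
    by_cases hji : j = i
    · subst hji; field_simp
    · have := h.rG a b i j (Ne.symm hba) (Ne.symm hji) hia hja hib hjb
      field_simp
      linear_combination this
  -- row d1 of E
  have h1 := h.eg_apply d1 b
  rw [if_neg (Ne.symm hbd1)] at h1
  have h2 := h.eg_apply d1 a
  rw [if_neg hd1a] at h2
  have h3 : ∑ k, E d1 k * G k b
      = (G i b / G i a) * ∑ k, E d1 k * G k a + E d1 ka * G ka b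
        - (G i b / G i a) * (E d1 kb * G kb a) := by
    rw [Finset.mul_sum]
    rw [← Finset.sum_erase_add _ _ (Finset.mem_univ ka),
      ← Finset.sum_erase_add (f := fun k => G i b / G i a * (E d1 k * G k a)) _ (Finset.mem_univ ka)]
    rw [← Finset.sum_erase_add _ _ (Finset.mem_erase.mpr ⟨Ne.symm hkab, Finset.mem_univ kb⟩),
      ← Finset.sum_erase_add (f := fun k => G i b / G i a * (E d1 k * G k a)) _
        (Finset.mem_erase.mpr ⟨Ne.symm hkab, Finset.mem_univ kb⟩)]
    have hs : ∑ k ∈ (Finset.univ.erase ka).erase kb, E d1 k * G k b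
        = ∑ k ∈ (Finset.univ.erase ka).erase kb, G i b / G i a * (E d1 k * G k a) := by
      refine Finset.sum_congr rfl (fun k hk => ?_)
      have hk1 := Finset.ne_of_mem_erase hk
      have hk2 := Finset.ne_of_mem_erase (Finset.mem_of_mem_erase hk)
      rw [hprop k hk2 hk1]
      ring
    rw [hs, hkb, hka]
    ring
  rw [h1, h2, hd1, mul_zero, zero_mul, add_zero, zero_sub, eq_comm, neg_eq_zero] at h3
  have hc : G i b / G i a ≠ 0 := div_ne_zero hib hia
  have h4 : E d1 kb = 0 := by
    rcases mul_eq_zero.mp h3 with h4 | h4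
    · exact (hc h4).elim
    · rcases mul_eq_zero.mp h4 with h5 | h5
      · exact h5
      · exact (hkba h5).elim
  exact hkab (h.symm.zero_inj hd1 h4)

/-- Claim 3 (second half): `G k a * E a k = 1` away from the zero of column `a`. -/
theorem claim3b (hn : 4 ≤ Fintype.card ι) (h : Good G E) {a ka b kb : ι} (hka : G ka a = 0)
    (hkb : G kb b = 0) (hab : a ≠ b) : G kb a * E a kb = 1 := by
  have hkab : ka ≠ kb := by
    rintro rfl
    exact hab (h.zero_inj hka hkb)
  obtain ⟨i, hika, hikb⟩ := exists_ne2 (by omega) ka kb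
  have hia : G i a ≠ 0 := fun hh => hika (h.zero_unique hh hka)
  have hib : G i b ≠ 0 := fun hh => hikb (h.zero_unique hh hkb)
  have hkba : G kb a ≠ 0 := fun hh => hkab (h.zero_unique hka hh)
  have hprop : ∀ j, j ≠ ka → j ≠ kb → G j b = (G i b / G i a) * G j a := by
    intro j hj1 hj2
    have hja : G j a ≠ 0 := fun hh => hj1 (h.zero_unique hh hka)
    have hjb : G j b ≠ 0 := fun hh => hj2 (h.zero_unique hh hkb)
    by_cases hji : j = i
    · subst hji; field_simp
    · have := h.rG a b i j hab (Ne.symm hji) hia hja hib hjb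
      field_simp
      linear_combination this
  have h1 := h.eg_apply a b
  rw [if_neg hab] at h1
  have h2 := h.eg_apply a a
  rw [if_pos rfl] at h2
  have h3 : ∑ k, E a k * G k b
      = (G i b / G i a) * ∑ k, E a k * G k a + E a ka * G ka b
        - (G i b / G i a) * (E a kb * G kb a) := by
    rw [Finset.mul_sum]
    rw [← Finset.sum_erase_add _ _ (Finset.mem_univ ka),
      ← Finset.sum_erase_add (f := fun k => G i b / G i a * (E a k * G k a)) _ (Finset.mem_univ ka)]
    rw [← Finset.sum_erase_add _ _ (Finset.mem_erase.mpr ⟨Ne.symm hkab, Finset.mem_univ kb⟩),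
      ← Finset.sum_erase_add (f := fun k => G i b / G i a * (E a k * G k a)) _
        (Finset.mem_erase.mpr ⟨Ne.symm hkab, Finset.mem_univ kb⟩)]
    have hs : ∑ k ∈ (Finset.univ.erase ka).erase kb, E a k * G k b
        = ∑ k ∈ (Finset.univ.erase ka).erase kb, G i b / G i a * (E a k * G k a) := by
      refine Finset.sum_congr rfl (fun k hk => ?_)
      have hk1 := Finset.ne_of_mem_erase hk
      have hk2 := Finset.ne_of_mem_erase (Finset.mem_of_mem_erase hk)
      rw [hprop k hk2 hk1]
      ring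
    rw [hs, hkb, hka]
    ring
  rw [h1, h2, h.claim3a hn hka, zero_mul, add_zero, mul_one] at h3
  have hc : G i b / G i a ≠ 0 := div_ne_zero hib hia
  have h5 : (G i b / G i a) * (1 - E a kb * G kb a) = 0 := by linear_combination -h3
  rcases mul_eq_zero.mp h5 with h6 | h6
  · exact (hc h6).elim
  · linear_combination -h6

end Good

/-- entries of `g⁻¹ * T_{r₁ r₂}(e) * g`. -/
theorem conj_Tij_apply (g : Matrix.GeneralLinearGroup ι F) {r₁ r₂ : ι} (hr : r₁ ≠ r₂) (e : Fˣ)
    (k l : ι) :
    ((g⁻¹ * Tij r₁ r₂ e * g : Matrix.GeneralLinearGroup ι F) : Matrix ι ι F) k l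
      = (if k = l then 1 else 0)
        + ((e : F) - 1) * (((g⁻¹ : Matrix.GeneralLinearGroup ι F) : Matrix ι ι F) k r₁
            * (g : Matrix ι ι F) r₁ l)
        + (((e⁻¹ : Fˣ) : F) - 1) * (((g⁻¹ : Matrix.GeneralLinearGroup ι F) : Matrix ι ι F) k r₂
            * (g : Matrix ι ι F) r₂ l) := by
  rw [Units.val_mul, Units.val_mul, Matrix.mul_apply]
  unfold Tij
  rw [Finset.sum_congr rfl (fun j _ => by rw [mul_dg_apply])]
  rw [← gl_inv_mul_apply g k l]
  have hd : ∀ j : ι, (((if j = r₁ then e else if j = r₂ then e⁻¹ else 1 : Fˣ)) : F)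
      = 1 + (if j = r₁ then (e : F) - 1 else 0) + (if j = r₂ then ((e⁻¹ : Fˣ) : F) - 1 else 0) := by
    intro j
    by_cases h1 : j = r₁
    · subst h1; simp [hr]
    · by_cases h2 : j = r₂
      · subst h2; simp [h1]
      · simp [h1, h2]
  rw [Finset.sum_congr rfl (fun j _ => by rw [hd j])]
  simp only [mul_add, add_mul, mul_one, Finset.sum_add_distrib, mul_ite, ite_mul, mul_zero,
    zero_mul, Finset.sum_ite_eq', Finset.mem_univ, if_true]
  ring

/-- a quadratic has at most two roots (elementary form). -/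
theorem three_roots_false {b₁ b₂ b₃ : F} (h12 : b₁ ≠ b₂) (h13 : b₁ ≠ b₃) (h23 : b₂ ≠ b₃)
    (h1 : b₁ ^ 2 - b₁ + 1 = 0) (h2 : b₂ ^ 2 - b₂ + 1 = 0) (h3 : b₃ ^ 2 - b₃ + 1 = 0) : False := by
  have e12 : (b₁ - b₂) * (b₁ + b₂ - 1) = 0 := by linear_combination h1 - h2
  have e13 : (b₁ - b₃) * (b₁ + b₃ - 1) = 0 := by linear_combination h1 - h3
  have s12 : b₁ + b₂ - 1 = 0 := by
    rcases mul_eq_zero.mp e12 with h | h
    · exact (h12 (sub_eq_zero.mp h)).elim
    · exact h
  have s13 : b₁ + b₃ - 1 = 0 := by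
    rcases mul_eq_zero.mp e13 with h | h
    · exact (h13 (sub_eq_zero.mp h)).elim
    · exact h
  exact h23 (by linear_combination s12 - s13)

/-- three distinct elements outside `{0, 1}`. -/
theorem exists_three [Fintype F] (hq : 5 ≤ Fintype.card F) :
    ∃ b₁ b₂ b₃ : F, b₁ ≠ 0 ∧ b₁ ≠ 1 ∧ b₂ ≠ 0 ∧ b₂ ≠ 1 ∧ b₃ ≠ 0 ∧ b₃ ≠ 1 ∧
      b₁ ≠ b₂ ∧ b₁ ≠ b₃ ∧ b₂ ≠ b₃ := by
  classical
  have hcard : 3 ≤ ((Finset.univ : Finset F).erase 0 |>.erase 1).card := by
    rw [Finset.card_erase_of_mem (Finset.mem_erase.mpr ⟨one_ne_zero, Finset.mem_univ _⟩),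
      Finset.card_erase_of_mem (Finset.mem_univ _), Finset.card_univ]
    omega
  obtain ⟨t, hts, htc⟩ := Finset.exists_subset_card_eq hcard
  obtain ⟨b₁, b₂, b₃, h12, h13, h23, rfl⟩ := Finset.card_eq_three.mp htc
  have hm : ∀ b ∈ ({b₁, b₂, b₃} : Finset F), b ≠ 0 ∧ b ≠ 1 := by
    intro b hb
    have := hts hb
    rw [Finset.mem_erase, Finset.mem_erase] at this
    exact ⟨this.2.1, this.1⟩
  have m1 := hm b₁ (by simp)
  have m2 := hm b₂ (by simp)
  have m3 := hm b₃ (by simp)
  exact ⟨b₁, b₂, b₃, m1.1, m1.2, m2.1, m2.2, m3.1, m3.2, h12, h13, h23⟩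

/-- a non-monomial element of `M` gives a `Good` pair. -/
theorem good_of_mem {M : Subgroup (Matrix.GeneralLinearGroup ι F)} (hW : W1 M) (hR : Rigid M)
    {g : Matrix.GeneralLinearGroup ι F} (hg : g ∈ M) (hnm : ¬ IsMono (g : Matrix ι ι F)) :
    Good (g : Matrix ι ι F) ((g⁻¹ : Matrix.GeneralLinearGroup ι F) : Matrix ι ι F) := by
  have hnm' : ¬ IsMono ((g⁻¹ : Matrix.GeneralLinearGroup ι F) : Matrix ι ι F) :=
    fun h => hnm ((isMono_inv_iff g).mp h)
  refine ⟨?_, ?_, hW g hg hnm, hW _ (M.inv_mem hg) hnm', hR g hg hnm, hR _ (M.inv_mem hg) hnm'⟩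
  · rw [← Units.val_mul, mul_inv_cancel]; rfl
  · rw [← Units.val_mul, inv_mul_cancel]; rfl

/-- Piece Fc. -/
theorem c0_false [Fintype F] (hq : 5 ≤ Fintype.card F) (hn : 5 ≤ Fintype.card ι)
    (M : Subgroup (Matrix.GeneralLinearGroup ι F)) (hMS : InSL M) (hN : HasMonoSL M)
    (hC0 : C0 M) (hW : W1 M) (hR : Rigid M)
    (g : Matrix.GeneralLinearGroup ι F) (hg : g ∈ M) (hnm : ¬ IsMono (g : Matrix ι ι F)) :
    False := by
  have hG := good_of_mem hW hR hg hnm
  have hn4 : 4 ≤ Fintype.card ι := by omega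
  -- two rows and a column whose zero avoids them
  obtain ⟨r₁, -⟩ : ∃ r : ι, True := by
    have : 0 < Fintype.card ι := by omega
    obtain ⟨r⟩ := Fintype.card_pos_iff.mp this
    exact ⟨r, trivial⟩
  obtain ⟨r₂, hr21, -⟩ := Good.exists_ne2 (by omega) r₁ r₁
  -- the zero map is injective hence surjective
  have hz : ∀ a, ∃ k, (g : Matrix ι ι F) k a = 0 := fun a => hG.claim2 hn4 a
  choose κ hκ using hz
  have hκinj : Function.Injective κ := by
    intro a b hab
    exact hG.zero_inj (hκ a) (hab ▸ hκ b)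
  have hκsurj : Function.Surjective κ := Finite.injective_iff_surjective.mp hκinj
  obtain ⟨r₃, hr31, hr32⟩ := Good.exists_ne2 (by omega) r₁ r₂
  obtain ⟨l, hl⟩ := hκsurj r₃
  have hl1 : κ l ≠ r₁ := by rw [hl]; exact hr31
  have hl2 : κ l ≠ r₂ := by rw [hl]; exact hr32
  have hr12 : r₁ ≠ r₂ := Ne.symm hr21
  have hgl1 : (g : Matrix ι ι F) r₁ l ≠ 0 := fun hh => hl1 (hG.zero_unique (hκ l) hh)
  have hgl2 : (g : Matrix ι ι F) r₂ l ≠ 0 := fun hh => hl2 (hG.zero_unique (hκ l) hh)
  -- key: for every unit e ≠ 1, e^2 - e + 1 = 0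
  have key : ∀ e : Fˣ, (e : F) ≠ 1 → (e : F) ^ 2 - (e : F) + 1 = 0 := by
    intro e he
    have hg' : g⁻¹ * Tij r₁ r₂ e * g ∈ M :=
      M.mul_mem (M.mul_mem (M.inv_mem hg) (Tij_mem hN hr12 e)) hg
    have hent := conj_Tij_apply g hr12 e
    have he0 : (e : F) ≠ 0 := e.ne_zero
    have hinv : ((e⁻¹ : Fˣ) : F) = (e : F)⁻¹ := Units.val_inv_eq_inv_val e
    have hinv1 : ((e⁻¹ : Fˣ) : F) - 1 ≠ 0 := by
      rw [hinv]
      intro hh
      apply he
      have : (e : F)⁻¹ = 1 := by linear_combination hh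
      have h3 : (e : F) * (e : F)⁻¹ = 1 := mul_inv_cancel₀ he0
      rw [this, mul_one] at h3
      exact h3
    have he1 : (e : F) - 1 ≠ 0 := sub_ne_zero.mpr he
    -- off-diagonal entries of column l are nonzero
    have hoff : ∀ k, k ≠ l →
        ((g⁻¹ * Tij r₁ r₂ e * g : Matrix.GeneralLinearGroup ι F) : Matrix ι ι F) k l ≠ 0 := by
      intro k hkl
      rw [hent k l, if_neg hkl, zero_add]
      by_cases hk1 : κ k = r₁
      · -- η_{k r₁} = 0
        have h0 : ((g⁻¹ : Matrix.GeneralLinearGroup ι F) : Matrix ι ι F) k r₁ = 0 := by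
          have := hG.claim3a hn4 (hκ k)
          rwa [hk1] at this
        have h1 : (g : Matrix ι ι F) r₂ k * ((g⁻¹ : Matrix.GeneralLinearGroup ι F) : Matrix ι ι F) k r₂ = 1 := by
          obtain ⟨b, hb⟩ := hκsurj r₂
          have hbk : k ≠ b := by
            rintro rfl
            rw [hk1] at hb
            exact hr12 hb
          have := hG.claim3b hn4 (hκ k) (hκ b) hbk
          rwa [hb] at this
        have h2 : ((g⁻¹ : Matrix.GeneralLinearGroup ι F) : Matrix ι ι F) k r₂ ≠ 0 := by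
          intro hh; rw [hh, mul_zero] at h1; exact zero_ne_one h1
        rw [h0, zero_mul, mul_zero, zero_add]
        exact mul_ne_zero hinv1 (mul_ne_zero h2 hgl2)
      · by_cases hk2 : κ k = r₂
        · have h0 : ((g⁻¹ : Matrix.GeneralLinearGroup ι F) : Matrix ι ι F) k r₂ = 0 := by
            have := hG.claim3a hn4 (hκ k)
            rwa [hk2] at this
          have h1 : (g : Matrix ι ι F) r₁ k * ((g⁻¹ : Matrix.GeneralLinearGroup ι F) : Matrix ι ι F) k r₁ = 1 := by
            obtain ⟨b, hb⟩ := hκsurj r₁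
            have hbk : k ≠ b := by
              rintro rfl
              rw [hk2] at hb
              exact hr12 hb.symm
            have := hG.claim3b hn4 (hκ k) (hκ b) hbk
            rwa [hb] at this
          have h2 : ((g⁻¹ : Matrix.GeneralLinearGroup ι F) : Matrix ι ι F) k r₁ ≠ 0 := by
            intro hh; rw [hh, mul_zero] at h1; exact zero_ne_one h1
          rw [h0, zero_mul, mul_zero, add_zero]
          exact mul_ne_zero he1 (mul_ne_zero h2 hgl1)
        · -- generic case
          have hgk1 : (g : Matrix ι ι F) r₁ k ≠ 0 := fun hh => hk1 (hG.zero_unique (hκ k) hh)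
          have hgk2 : (g : Matrix ι ι F) r₂ k ≠ 0 := fun hh => hk2 (hG.zero_unique (hκ k) hh)
          have h1 : (g : Matrix ι ι F) r₁ k * ((g⁻¹ : Matrix.GeneralLinearGroup ι F) : Matrix ι ι F) k r₁ = 1 := by
            obtain ⟨b, hb⟩ := hκsurj r₁
            have hbk : k ≠ b := by
              rintro rfl
              exact hk1 hb
            have := hG.claim3b hn4 (hκ k) (hκ b) hbk
            rwa [hb] at this
          have h2 : (g : Matrix ι ι F) r₂ k * ((g⁻¹ : Matrix.GeneralLinearGroup ι F) : Matrix ι ι F) k r₂ = 1 := by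
            obtain ⟨b, hb⟩ := hκsurj r₂
            have hbk : k ≠ b := by
              rintro rfl
              exact hk2 hb
            have := hG.claim3b hn4 (hκ k) (hκ b) hbk
            rwa [hb] at this
          have hrig := hG.rG k l r₁ r₂ hkl hr12 hgk1 hgk2 hgl1 hgl2
          have e1 : ((g⁻¹ : Matrix.GeneralLinearGroup ι F) : Matrix ι ι F) k r₁
              = ((g : Matrix ι ι F) r₁ k)⁻¹ := eq_inv_of_mul_eq_one_right h1
          have e2 : ((g⁻¹ : Matrix.GeneralLinearGroup ι F) : Matrix ι ι F) k r₂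
              = ((g : Matrix ι ι F) r₂ k)⁻¹ := eq_inv_of_mul_eq_one_right h2
          rw [e1, e2, hinv]
          have hmu : ((g : Matrix ι ι F) r₂ k)⁻¹ * (g : Matrix ι ι F) r₂ l
              = ((g : Matrix ι ι F) r₁ k)⁻¹ * (g : Matrix ι ι F) r₁ l := by
            field_simp
            linear_combination hrig
          rw [hmu]
          have hmu0 : ((g : Matrix ι ι F) r₁ k)⁻¹ * (g : Matrix ι ι F) r₁ l ≠ 0 :=
            mul_ne_zero (inv_ne_zero hgk1) hgl1
          have : ((e : F) - 1) * (((g : Matrix ι ι F) r₁ k)⁻¹ * (g : Matrix ι ι F) r₁ l)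
              + ((e : F)⁻¹ - 1) * (((g : Matrix ι ι F) r₁ k)⁻¹ * (g : Matrix ι ι F) r₁ l)
              = (((g : Matrix ι ι F) r₁ k)⁻¹ * (g : Matrix ι ι F) r₁ l) * (((e : F) - 1) ^ 2 * (e : F)⁻¹) := by
            field_simp
            ring
          rw [this]
          exact mul_ne_zero hmu0 (mul_ne_zero (pow_ne_zero 2 he1) (inv_ne_zero he0))
    -- g' is not monomial
    have hnm' : ¬ IsMono ((g⁻¹ * Tij r₁ r₂ e * g : Matrix.GeneralLinearGroup ι F) : Matrix ι ι F) := by
      intro hmono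
      obtain ⟨m, hm⟩ := hmono l
      obtain ⟨k, hk1, hk2⟩ := Good.exists_ne2 (by omega) l m
      exact hoff k hk1 (hm k hk2)
    have hG' := good_of_mem hW hR hg' hnm'
    obtain ⟨k, hk⟩ := hG'.claim2 hn4 l
    have hkl : k = l := by
      by_contra hne
      exact hoff k hne hk
    subst hkl
    rw [hent k k, if_pos rfl] at hk
    have h1 : (g : Matrix ι ι F) r₁ k * ((g⁻¹ : Matrix.GeneralLinearGroup ι F) : Matrix ι ι F) k r₁ = 1 := by
      obtain ⟨b, hb⟩ := hκsurj r₁
      have hbk : k ≠ b := by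
        rintro rfl
        exact hl1 hb
      have := hG.claim3b hn4 (hκ k) (hκ b) hbk
      rwa [hb] at this
    have h2 : (g : Matrix ι ι F) r₂ k * ((g⁻¹ : Matrix.GeneralLinearGroup ι F) : Matrix ι ι F) k r₂ = 1 := by
      obtain ⟨b, hb⟩ := hκsurj r₂
      have hbk : k ≠ b := by
        rintro rfl
        exact hl2 hb
      have := hG.claim3b hn4 (hκ k) (hκ b) hbk
      rwa [hb] at this
    rw [mul_comm (((g⁻¹ : Matrix.GeneralLinearGroup ι F) : Matrix ι ι F) k r₁), h1,
      mul_comm (((g⁻¹ : Matrix.GeneralLinearGroup ι F) : Matrix ι ι F) k r₂), h2, hinv] at hk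
    have : (e : F) * (1 + ((e : F) - 1) * 1 + ((e : F)⁻¹ - 1) * 1) = 0 := by rw [hk, mul_zero]
    have h3 : (e : F) * (e : F)⁻¹ = 1 := mul_inv_cancel₀ he0
    linear_combination this - h3
  obtain ⟨b₁, b₂, b₃, h10, h11, h20, h21, h30, h31, h12, h13, h23⟩ := exists_three (F := F) hq
  have k1 := key (Units.mk0 b₁ h10) (by simpa using h11)
  have k2 := key (Units.mk0 b₂ h20) (by simpa using h21)
  have k3 := key (Units.mk0 b₃ h30) (by simpa using h31)
  simp only [Units.val_mk0] at k1 k2 k3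
  exact three_roots_false h12 h13 h23 k1 k2 k3

end Cfsg.Agent.Lib.Helper29.ExtrL
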