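import Cfsg.Agent.Lib.Helper29.ExtrL.L5
import Cfsg.Agent.Lib.Helper29.ExtrL.Fc
import Cfsg.Agent.Lib.Helper21.ExtrLG3
import Cfsg.Agent.Lib.Helper11.ExtrLG4
import Cfsg.Agent.Lib.Helper11.ExtrLFa
import Cfsg.Agent.Lib.Helper27.ExtrLFb
import Cfsg.Agent.Lib.Helper18.ExtrLE

/-!
# EXTRACTION-L: overgroups of the monomial group in `SL_n(q)`, `q ≥ 5`, `n ≥ 13`

Assembly of the pieces (helper11: Fa, G4; helper18: E; helper21: G3; helper27: Fb0, Fb;
helper29: G1, G2, L, Fc).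
-/

set_option autoImplicit false

namespace Cfsg.Agent.Lib.Helper29.ExtrL

open Matrix

/-- the order of a finite field is not `6`. -/
theorem card_field_ne_six {F : Type*} [Field F] [Fintype F] : Fintype.card F ≠ 6 := by
  intro h
  obtain ⟨p, -, n, hp, hpn⟩ := FiniteField.card' F
  rw [h] at hpn
  have hp6 : p ∣ 6 := by
    rw [hpn]
    exact dvd_pow_self p n.ne_zero
  have hp_le : p ≤ 6 := Nat.le_of_dvd (by norm_num) hp6
  have h2 : (2 : ℕ) ∣ p ^ (n : ℕ) := by rw [← hpn]; norm_num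
  have h3 : (3 : ℕ) ∣ p ^ (n : ℕ) := by rw [← hpn]; norm_num
  have h2p : 2 ∣ p := Nat.Prime.dvd_of_dvd_pow Nat.prime_two h2
  have h3p : 3 ∣ p := Nat.Prime.dvd_of_dvd_pow Nat.prime_three h3
  have e2 : p = 2 := ((Nat.prime_dvd_prime_iff_eq Nat.prime_two hp).mp h2p).symm
  have e3 : p = 3 := ((Nat.prime_dvd_prime_iff_eq Nat.prime_three hp).mp h3p).symm
  omega

/-- Piece G: the GL-theorem. -/
theorem gl_extract {κ : Type} [Fintype κ] [DecidableEq κ] {F : Type*} [Field F] [Fintype F]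
    (hq : 5 ≤ Fintype.card F) (hκ : 3 ≤ Fintype.card κ)
    (H : Subgroup (Matrix.GeneralLinearGroup κ F))
    (hD : HasDiag H) (hS : HasSwaps H) (h : Matrix.GeneralLinearGroup κ F) (hh : h ∈ H)
    (hnm : ¬ IsMono (h : Matrix κ κ F)) : HasElemTv H := by
  by_contra hno
  apply hnm
  by_cases h5 : Fintype.card F = 5
  · exact Cfsg.Agent.Lib.Helper11.ExtrL.gl_q5 h5 hκ H hD hS hno h hh
  · have h6 := card_field_ne_six (F := F)
    exact Cfsg.Agent.Lib.Helper21.ExtrL.gl_q7 (by omega) H hD hno h hh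

variable {ι : Type} [Fintype ι] [DecidableEq ι] {F : Type*} [Field F] [Fintype F]

/-- Piece L. -/
theorem lift_case (hq : 5 ≤ Fintype.card F) (hn : 5 ≤ Fintype.card ι)
    (M : Subgroup (Matrix.GeneralLinearGroup ι F)) (hMS : InSL M) (hN : HasMonoSL M)
    (g : Matrix.GeneralLinearGroup ι F) (hg : g ∈ M) (hnm : ¬ IsMono (g : Matrix ι ι F))
    (a k : ι) (hcol : ColAt (g : Matrix ι ι F) a k) :
    ∃ (i : ι) (ψ : ι → F), ψ i = 0 ∧ ψ ≠ 0 ∧
      ∃ x ∈ M, ((x : Matrix.GeneralLinearGroup ι F) : Matrix ι ι F) =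
        1 + Matrix.vecMulVec (Pi.single i 1) ψ :=
  lift_case_aux (by omega) hn
    (fun κ _ _ H hκ hD hS h hh hnm' => gl_extract hq hκ H hD hS h hh hnm')
    M hMS hN g hg hnm a k hcol

/-- **EXTRACTION-L**: a subgroup of `SL` containing all monomial matrices of determinant one and a
non-monomial element is `SL` (`q ≥ 5`, `n ≥ 13`). -/
theorem extraction (hq : 5 ≤ Fintype.card F) (hn : 13 ≤ Fintype.card ι)
    (M : Subgroup (Matrix.GeneralLinearGroup ι F)) (hMS : InSL M) (hN : HasMonoSL M)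
    (g₀ : Matrix.GeneralLinearGroup ι F) (hg₀ : g₀ ∈ M) (hnm : ¬ IsMono (g₀ : Matrix ι ι F)) :
    ∀ g : Matrix.GeneralLinearGroup ι F, (g : Matrix ι ι F).det = 1 → g ∈ M := by
  by_cases hC0 : C0 M
  · have hW := Cfsg.Agent.Lib.Helper11.ExtrL.c0_weights hq (by omega) M hMS hN hC0
    have hR := Cfsg.Agent.Lib.Helper27.ExtrL.c0_rigid hn M hMS hN hC0 hW
    exact (c0_false hq (by omega) M hMS hN hC0 hW hR g₀ hg₀ hnm).elim
  · unfold C0 at hC0
    push Not at hC0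
    obtain ⟨g, hg, ⟨a, k, hcol⟩, hnm'⟩ := hC0
    obtain ⟨i, ψ, hψi, hψ, x, hx, hxv⟩ := lift_case hq (by omega) M hMS hN g hg hnm' a k hcol
    exact Cfsg.Agent.Lib.Helper18.ExtrL.finish (by omega) (by omega) M hMS hN i ψ hψi hψ x hx hxv

end Cfsg.Agent.Lib.Helper29.ExtrL
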