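import Mathlib

/-!
# EXTRACTION-L: definitions (project S5634, case of one-dimensional blocks)

Overgroups of the monomial group of determinant one in `SL_n(q)`, `q ≥ 5`, `n ≥ 13`.
All statements are entrywise on `Matrix ι ι F` for elements of `Matrix.GeneralLinearGroup ι F`.
See `PLAN.md` in this folder for the paper proof and the list of pieces.
-/

set_option autoImplicit false

namespace Cfsg.Agent.Lib.Helper29.ExtrL

open Matrix

variable {ι : Type} [Fintype ι] [DecidableEq ι] {F : Type*} [Field F]

/-- column `a` of `g` vanishes outside row `k`. -/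
def ColAt (g : Matrix ι ι F) (a k : ι) : Prop := ∀ i, i ≠ k → g i a = 0

/-- every column of `g` has at most one nonzero entry (for invertible `g`: `g` is monomial). -/
def IsMono (g : Matrix ι ι F) : Prop := ∀ a, ∃ k, ColAt g a k

/-- `M` contains every monomial matrix of determinant one. -/
def HasMonoSL (M : Subgroup (Matrix.GeneralLinearGroup ι F)) : Prop :=
  ∀ g : Matrix.GeneralLinearGroup ι F, IsMono (g : Matrix ι ι F) →
    (g : Matrix ι ι F).det = 1 → g ∈ M

/-- every element of `M` has determinant one. -/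
def InSL (M : Subgroup (Matrix.GeneralLinearGroup ι F)) : Prop :=
  ∀ g ∈ M, ((g : Matrix.GeneralLinearGroup ι F) : Matrix ι ι F).det = 1

/-- `H` contains every invertible diagonal matrix. -/
def HasDiag (H : Subgroup (Matrix.GeneralLinearGroup ι F)) : Prop :=
  ∀ g : Matrix.GeneralLinearGroup ι F, (∀ i j, i ≠ j → (g : Matrix ι ι F) i j = 0) → g ∈ H

/-- `H` contains every transposition matrix. -/
def HasSwaps (H : Subgroup (Matrix.GeneralLinearGroup ι F)) : Prop :=
  ∀ (i j : ι) (g : Matrix.GeneralLinearGroup ι F),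
    (∀ a b, (g : Matrix ι ι F) a b = if Equiv.swap i j b = a then 1 else 0) → g ∈ H

/-- `H` contains a nontrivial elementary transvection. -/
def HasElemTv (H : Subgroup (Matrix.GeneralLinearGroup ι F)) : Prop :=
  ∃ (k l : ι) (ξ : F), k ≠ l ∧ ξ ≠ 0 ∧
    ∃ x ∈ H, ((x : Matrix.GeneralLinearGroup ι F) : Matrix ι ι F) = Matrix.transvection k l ξ

/-- "no two distinct frames of the orbit share a line": an element of `M` with one monomial column
is monomial. -/
def C0 (M : Subgroup (Matrix.GeneralLinearGroup ι F)) : Prop :=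
  ∀ g ∈ M, (∃ a k, ColAt ((g : Matrix.GeneralLinearGroup ι F) : Matrix ι ι F) a k) →
    IsMono ((g : Matrix.GeneralLinearGroup ι F) : Matrix ι ι F)

/-- every column of every non-monomial element of `M` has at most one zero. -/
def W1 (M : Subgroup (Matrix.GeneralLinearGroup ι F)) : Prop :=
  ∀ g ∈ M, ¬ IsMono ((g : Matrix.GeneralLinearGroup ι F) : Matrix ι ι F) →
    ∀ a i j : ι, i ≠ j → ¬ ((g : Matrix ι ι F) i a = 0 ∧ (g : Matrix ι ι F) j a = 0)

/-- rigidity: in a non-monomial element of `M` every `2 × 2` minor with four nonzero entries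
vanishes. -/
def Rigid (M : Subgroup (Matrix.GeneralLinearGroup ι F)) : Prop :=
  ∀ g ∈ M, ¬ IsMono ((g : Matrix.GeneralLinearGroup ι F) : Matrix ι ι F) →
    ∀ a b i j : ι, a ≠ b → i ≠ j →
      (g : Matrix ι ι F) i a ≠ 0 → (g : Matrix ι ι F) j a ≠ 0 →
      (g : Matrix ι ι F) i b ≠ 0 → (g : Matrix ι ι F) j b ≠ 0 →
      (g : Matrix ι ι F) i a * (g : Matrix ι ι F) j b = (g : Matrix ι ι F) j a * (g : Matrix ι ι F) i b

end Cfsg.Agent.Lib.Helper29.ExtrL
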