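import Cfsg.Agent.Lib.Helper29.ExtrL.Basic

/-!
# EXTRACTION-L, piece L, part 1: signed swaps, the stabiliser of a coordinate line, reduction
-/

set_option autoImplicit false

namespace Cfsg.Agent.Lib.Helper29.ExtrL

open Matrix

variable {ι : Type} [Fintype ι] [DecidableEq ι] {F : Type*} [Field F]

/-- the signed transposition matrix: permutation matrix of `swap a k` with the sign `-1` in
column `j₀`. -/
def swMat (a k j₀ : ι) : Matrix ι ι F :=
  fun i j => if Equiv.swap a k i = j then (if j = j₀ then -1 else 1) else 0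

theorem swMat_eq (a k j₀ : ι) :
    (swMat a k j₀ : Matrix ι ι F)
      = (Equiv.swap a k).permMatrix F * Matrix.diagonal (fun j => if j = j₀ then (-1 : F) else 1) := by
  ext i j
  rw [Matrix.mul_diagonal]
  show swMat a k j₀ i j = (if j ∈ (Equiv.swap a k).toPEquiv i then (1 : F) else 0) * _
  unfold swMat
  by_cases h : Equiv.swap a k i = j
  · rw [if_pos h]
    have : j ∈ (Equiv.swap a k).toPEquiv i := by
      rw [Equiv.toPEquiv_apply]; exact Option.mem_some_iff.mpr h
    rw [if_pos this, one_mul]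
  · rw [if_neg h]
    have : ¬ j ∈ (Equiv.swap a k).toPEquiv i := by
      rw [Equiv.toPEquiv_apply]; intro hh; exact h (Option.mem_some_iff.mp hh)
    rw [if_neg this, zero_mul]

theorem det_swMat {a k : ι} (hak : a ≠ k) (j₀ : ι) : (swMat a k j₀ : Matrix ι ι F).det = 1 := by
  rw [swMat_eq, Matrix.det_mul, Matrix.det_permutation, Equiv.Perm.sign_swap hak,
    Matrix.det_diagonal, Finset.prod_ite_eq' Finset.univ j₀]
  simp

theorem isMono_swMat (a k j₀ : ι) : IsMono (swMat a k j₀ : Matrix ι ι F) := by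
  intro b
  refine ⟨Equiv.swap a k b, fun i hi => ?_⟩
  unfold swMat
  rw [if_neg]
  intro h
  apply hi
  rw [← h, Equiv.swap_apply_self]

/-- the signed transposition as an element of `GL`. -/
noncomputable def swGL {a k : ι} (hak : a ≠ k) (j₀ : ι) : Matrix.GeneralLinearGroup ι F :=
  Matrix.GeneralLinearGroup.mkOfDetNeZero (swMat a k j₀) (by rw [det_swMat hak]; exact one_ne_zero)

theorem swGL_val {a k : ι} (hak : a ≠ k) (j₀ : ι) :
    ((swGL hak j₀ : Matrix.GeneralLinearGroup ι F) : Matrix ι ι F) = swMat a k j₀ := rfl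

theorem swGL_mem {M : Subgroup (Matrix.GeneralLinearGroup ι F)} (hN : HasMonoSL M) {a k : ι}
    (hak : a ≠ k) (j₀ : ι) : swGL hak j₀ ∈ M :=
  hN _ (by rw [swGL_val]; exact isMono_swMat a k j₀) (by rw [swGL_val]; exact det_swMat hak j₀)

/-- multiplying on the right by a signed swap moves column `a` to column `k`. -/
theorem mul_swMat_col (g : Matrix ι ι F) {a k : ι} (hak : a ≠ k) (i : ι) :
    (g * (swMat a k a : Matrix ι ι F)) i k = g i a := by
  rw [Matrix.mul_apply, Finset.sum_eq_single a]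
  · unfold swMat
    rw [Equiv.swap_apply_left, if_pos rfl, if_neg (Ne.symm hak), mul_one]
  · intro b _ hb
    unfold swMat
    rw [if_neg, mul_zero]
    intro h
    apply hb
    have := congrArg (Equiv.swap a k) h
    rw [Equiv.swap_apply_self, Equiv.swap_apply_right] at this
    exact this
  · intro h; exact (h (Finset.mem_univ a)).elim

/-- reduction to the case of a monomial column on the diagonal. -/
theorem wlog_diag {M : Subgroup (Matrix.GeneralLinearGroup ι F)} (hN : HasMonoSL M)
    (g : Matrix.GeneralLinearGroup ι F) (hg : g ∈ M) (hnm : ¬ IsMono (g : Matrix ι ι F))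
    (a k : ι) (hcol : ColAt (g : Matrix ι ι F) a k) :
    ∃ g' ∈ M, ¬ IsMono ((g' : Matrix.GeneralLinearGroup ι F) : Matrix ι ι F) ∧
      ColAt ((g' : Matrix.GeneralLinearGroup ι F) : Matrix ι ι F) k k := by
  by_cases hak : a = k
  · subst hak
    exact ⟨g, hg, hnm, hcol⟩
  · refine ⟨g * swGL hak a, M.mul_mem hg (swGL_mem hN hak a), ?_, ?_⟩
    · intro hmono
      apply hnm
      have h1 : IsMono (((g * swGL hak a) * (swGL hak a)⁻¹ : Matrix.GeneralLinearGroup ι F) :
          Matrix ι ι F) := by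
        rw [Units.val_mul]
        exact isMono_mul hmono (isMono_inv _ (by rw [swGL_val]; exact isMono_swMat (F := F) a k a))
      rwa [mul_inv_cancel_right] at h1
    · intro i hi
      rw [Units.val_mul, swGL_val, mul_swMat_col _ hak]
      exact hcol i hi

/-! ### the stabiliser of the coordinate line `i₀` -/

/-- products preserve `ColAt · i₀ i₀`. -/
theorem colAt_mul {A B : Matrix ι ι F} {i₀ : ι} (hA : ColAt A i₀ i₀) (hB : ColAt B i₀ i₀) :
    ColAt (A * B) i₀ i₀ := by
  intro i hi
  rw [Matrix.mul_apply]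
  apply Finset.sum_eq_zero
  intro m _
  by_cases hm : m = i₀
  · subst hm; rw [hA i hi, zero_mul]
  · rw [hB m hm, mul_zero]

theorem mul_apply_diag {A B : Matrix ι ι F} {i₀ : ι} (hB : ColAt B i₀ i₀) :
    (A * B) i₀ i₀ = A i₀ i₀ * B i₀ i₀ := by
  rw [Matrix.mul_apply, Finset.sum_eq_single i₀]
  · intro m _ hm; rw [hB m hm, mul_zero]
  · intro h; exact (h (Finset.mem_univ _)).elim

/-- inverses preserve `ColAt · i₀ i₀`. -/
theorem colAt_inv (g : Matrix.GeneralLinearGroup ι F) {i₀ : ι}
    (hg : ColAt (g : Matrix ι ι F) i₀ i₀) :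
    ColAt ((g⁻¹ : Matrix.GeneralLinearGroup ι F) : Matrix ι ι F) i₀ i₀ := by
  intro i hi
  have h := gl_inv_mul_apply g i i₀
  rw [if_neg hi, Finset.sum_eq_single i₀ (fun m _ hm => by rw [hg m hm, mul_zero])
    (fun h => (h (Finset.mem_univ _)).elim)] at h
  have h0 : (g : Matrix ι ι F) i₀ i₀ ≠ 0 := by
    obtain ⟨j, hj⟩ := gl_col_ne_zero g i₀
    by_cases hji : j = i₀
    · subst hji; exact hj
    · exact (hj (hg j hji)).elim
  rcases mul_eq_zero.mp h with h1 | h1
  · exact h1
  · exact (h0 h1).elim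

/-- the reduction map: delete row and column `i₀`. -/
def red (i₀ : ι) (A : Matrix ι ι F) : Matrix {j : ι // j ≠ i₀} {j : ι // j ≠ i₀} F :=
  A.submatrix Subtype.val Subtype.val

theorem red_apply (i₀ : ι) (A : Matrix ι ι F) (i j : {j : ι // j ≠ i₀}) :
    red i₀ A i j = A i.1 j.1 := rfl

theorem red_one (i₀ : ι) : red i₀ (1 : Matrix ι ι F) = 1 := by
  ext i j
  rw [red_apply, Matrix.one_apply, Matrix.one_apply]
  by_cases h : i = j
  · rw [if_pos h, if_pos (congrArg Subtype.val h)]
  · rw [if_neg h, if_neg (fun hh => h (Subtype.ext hh))]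

theorem red_mul {A B : Matrix ι ι F} {i₀ : ι} (hA : ColAt A i₀ i₀) :
    red i₀ (A * B) = red i₀ A * red i₀ B := by
  ext i j
  rw [red_apply, Matrix.mul_apply, Matrix.mul_apply, Fintype.sum_eq_add_sum_subtype_ne _ i₀,
    hA i.1 i.2, zero_mul, zero_add]
  rfl

end Cfsg.Agent.Lib.Helper29.ExtrL
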