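import Cfsg.Agent.Lib.Helper29.ExtrL.L1

/-!
# EXTRACTION-L, piece L, part 2: the group induced on the quotient by a coordinate line
-/

set_option autoImplicit false

namespace Cfsg.Agent.Lib.Helper29.ExtrL

open Matrix

variable {ι : Type} [Fintype ι] [DecidableEq ι] {F : Type*} [Field F]

/-- the group induced by the stabiliser in `M` of the coordinate line `i₀` on the quotient. -/
def redGroup (M : Subgroup (Matrix.GeneralLinearGroup ι F)) (i₀ : ι) :
    Subgroup (Matrix.GeneralLinearGroup {j : ι // j ≠ i₀} F) where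
  carrier := {x | ∃ y ∈ M, ColAt ((y : Matrix.GeneralLinearGroup ι F) : Matrix ι ι F) i₀ i₀ ∧
    red i₀ ((y : Matrix.GeneralLinearGroup ι F) : Matrix ι ι F) = (x : Matrix _ _ F)}
  mul_mem' := by
    rintro x x' ⟨y, hy, hc, hr⟩ ⟨y', hy', hc', hr'⟩
    refine ⟨y * y', M.mul_mem hy hy', ?_, ?_⟩
    · rw [Units.val_mul]; exact colAt_mul hc hc'
    · rw [Units.val_mul, red_mul hc, hr, hr', Units.val_mul]
  one_mem' := ⟨1, M.one_mem, by
    intro i hi
    rw [Units.val_one, Matrix.one_apply_ne hi], by rw [Units.val_one, red_one, Units.val_one]⟩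
  inv_mem' := by
    rintro x ⟨y, hy, hc, hr⟩
    refine ⟨y⁻¹, M.inv_mem hy, colAt_inv y hc, ?_⟩
    have h1 : (x : Matrix _ _ F) * red i₀ ((y⁻¹ : Matrix.GeneralLinearGroup ι F) : Matrix ι ι F) = 1 := by
      rw [← hr, ← red_mul hc, ← Units.val_mul, mul_inv_cancel, Units.val_one, red_one]
    calc red i₀ ((y⁻¹ : Matrix.GeneralLinearGroup ι F) : Matrix ι ι F)
        = ((x⁻¹ : Matrix.GeneralLinearGroup _ F) : Matrix _ _ F) *
            ((x : Matrix _ _ F) * red i₀ ((y⁻¹ : Matrix.GeneralLinearGroup ι F) : Matrix ι ι F)) := by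
          rw [← Matrix.mul_assoc, ← Units.val_mul, inv_mul_cancel, Units.val_one, Matrix.one_mul]
      _ = ((x⁻¹ : Matrix.GeneralLinearGroup _ F) : Matrix _ _ F) := by rw [h1, Matrix.mul_one]

theorem mem_redGroup {M : Subgroup (Matrix.GeneralLinearGroup ι F)} {i₀ : ι}
    {x : Matrix.GeneralLinearGroup {j : ι // j ≠ i₀} F} :
    x ∈ redGroup M i₀ ↔ ∃ y ∈ M, ColAt ((y : Matrix.GeneralLinearGroup ι F) : Matrix ι ι F) i₀ i₀ ∧
      red i₀ ((y : Matrix.GeneralLinearGroup ι F) : Matrix ι ι F) = (x : Matrix _ _ F) := Iff.rfl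

/-- the element of `GL` of the quotient induced by `y` in the stabiliser. -/
noncomputable def redGL (y : Matrix.GeneralLinearGroup ι F) {i₀ : ι}
    (hc : ColAt (y : Matrix ι ι F) i₀ i₀) : Matrix.GeneralLinearGroup {j : ι // j ≠ i₀} F :=
  ⟨red i₀ (y : Matrix ι ι F), red i₀ ((y⁻¹ : Matrix.GeneralLinearGroup ι F) : Matrix ι ι F),
    by rw [← red_mul hc, ← Units.val_mul, mul_inv_cancel, Units.val_one, red_one],
    by rw [← red_mul (colAt_inv y hc), ← Units.val_mul, inv_mul_cancel, Units.val_one, red_one]⟩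

theorem redGL_val (y : Matrix.GeneralLinearGroup ι F) {i₀ : ι}
    (hc : ColAt (y : Matrix ι ι F) i₀ i₀) :
    ((redGL y hc : Matrix.GeneralLinearGroup _ F) : Matrix _ _ F) = red i₀ (y : Matrix ι ι F) := rfl

theorem redGL_mem {M : Subgroup (Matrix.GeneralLinearGroup ι F)} {y : Matrix.GeneralLinearGroup ι F}
    (hy : y ∈ M) {i₀ : ι} (hc : ColAt (y : Matrix ι ι F) i₀ i₀) : redGL y hc ∈ redGroup M i₀ :=
  ⟨y, hy, hc, rfl⟩

/-- diagonal entries of an invertible diagonal matrix are nonzero. -/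
theorem diag_entry_ne_zero {κ : Type} [Fintype κ] [DecidableEq κ]
    (x : Matrix.GeneralLinearGroup κ F) (hx : ∀ i j, i ≠ j → (x : Matrix κ κ F) i j = 0) (i : κ) :
    (x : Matrix κ κ F) i i ≠ 0 := by
  obtain ⟨j, hj⟩ := gl_row_ne_zero x i
  by_cases hij : j = i
  · subst hij; exact hj
  · exact (hj (hx i j (Ne.symm hij))).elim

/-- lift of a diagonal matrix of the quotient to a diagonal matrix of determinant one. -/
noncomputable def liftDiag (i₀ : ι) (x : Matrix.GeneralLinearGroup {j : ι // j ≠ i₀} F)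
    (hne : ∀ m, (x : Matrix {j : ι // j ≠ i₀} {j : ι // j ≠ i₀} F) m m ≠ 0) : ι → Fˣ := fun j =>
  if h : j = i₀ then (∏ m : {j : ι // j ≠ i₀}, Units.mk0 ((x : Matrix {j : ι // j ≠ i₀} {j : ι // j ≠ i₀} F) m m) (hne m))⁻¹
  else Units.mk0 ((x : Matrix {j : ι // j ≠ i₀} {j : ι // j ≠ i₀} F) ⟨j, h⟩ ⟨j, h⟩) (hne ⟨j, h⟩)

/-- the induced group contains the diagonal matrices. -/
theorem redGroup_hasDiag {M : Subgroup (Matrix.GeneralLinearGroup ι F)} (hN : HasMonoSL M) (i₀ : ι) :
    HasDiag (redGroup M i₀) := by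
  intro x hx
  have hne := diag_entry_ne_zero x hx
  have hdet : ((dg (liftDiag i₀ x hne) : Matrix.GeneralLinearGroup ι F) : Matrix ι ι F).det = 1 := by
    rw [det_dg, Fintype.prod_eq_mul_prod_subtype_ne _ i₀]
    have h1 : (liftDiag i₀ x hne i₀ : F) = ((∏ m : {j : ι // j ≠ i₀},
        Units.mk0 ((x : Matrix _ _ F) m m) (hne m))⁻¹ : Fˣ) := by
      unfold liftDiag
      rw [dif_pos rfl]
    have h2 : ∀ m : {j : ι // j ≠ i₀}, (liftDiag i₀ x hne m.1 : F)
        = ((Units.mk0 ((x : Matrix _ _ F) m m) (hne m) : Fˣ) : F) := by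
      intro m
      unfold liftDiag
      rw [dif_neg m.2]
    rw [h1, Finset.prod_congr rfl (fun m _ => h2 m), ← Units.coe_prod, ← Units.val_mul,
      inv_mul_cancel, Units.val_one]
  refine ⟨dg (liftDiag i₀ x hne), hN _ (isMono_dg _) hdet, ?_, ?_⟩
  · intro i hi
    rw [dg_apply, if_neg hi]
  · ext i j
    rw [red_apply, dg_apply]
    by_cases hij : i = j
    · subst hij
      rw [if_pos rfl]
      unfold liftDiag
      rw [dif_neg i.2, Units.val_mk0]
    · rw [if_neg (fun h => hij (Subtype.ext h)), hx i j hij]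

/-- the induced group contains the transposition matrices. -/
theorem redGroup_hasSwaps {M : Subgroup (Matrix.GeneralLinearGroup ι F)} (hN : HasMonoSL M) (i₀ : ι) :
    HasSwaps (redGroup M i₀) := by
  intro i j x hx
  by_cases hij : i = j
  · subst hij
    have : x = 1 := by
      apply Units.ext
      ext a b
      rw [hx a b, Equiv.swap_self, Equiv.refl_apply, Units.val_one, Matrix.one_apply]
      by_cases hab : a = b
      · rw [if_pos hab, if_pos hab.symm]
      · rw [if_neg hab, if_neg (Ne.symm hab)]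
    rw [this]
    exact (redGroup M i₀).one_mem
  · have hij' : i.1 ≠ j.1 := fun h => hij (Subtype.ext h)
    refine ⟨swGL hij' i₀, swGL_mem hN hij' i₀, ?_, ?_⟩
    · intro a ha
      rw [swGL_val]
      unfold swMat
      rw [if_neg]
      intro h
      apply ha
      have := congrArg (Equiv.swap i.1 j.1) h
      rw [Equiv.swap_apply_self, Equiv.swap_apply_of_ne_of_ne (Ne.symm i.2) (Ne.symm j.2)] at this
      exact this
    · ext a b
      rw [red_apply, swGL_val, hx a b]
      unfold swMat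
      rw [if_neg b.2]
      have hval : (Equiv.swap i j b).1 = Equiv.swap i.1 j.1 b.1 := by
        by_cases hbi : b = i
        · subst hbi; rw [Equiv.swap_apply_left, Equiv.swap_apply_left]
        · by_cases hbj : b = j
          · subst hbj; rw [Equiv.swap_apply_right, Equiv.swap_apply_right]
          · rw [Equiv.swap_apply_of_ne_of_ne hbi hbj,
              Equiv.swap_apply_of_ne_of_ne (fun h => hbi (Subtype.ext h))
                (fun h => hbj (Subtype.ext h))]
      by_cases h : Equiv.swap i j b = a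
      · rw [if_pos h, if_pos]
        rw [← h, hval, Equiv.swap_apply_self]
      · rw [if_neg h, if_neg]
        intro hh
        apply h
        apply Subtype.ext
        rw [hval, ← hh, Equiv.swap_apply_self]

end Cfsg.Agent.Lib.Helper29.ExtrL
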