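import Cfsg.Agent.Lib.Helper29.ExtrL.L2

/-!
# EXTRACTION-L, piece L, part 3: transvections with coordinate centre; the monomial case
-/

set_option autoImplicit false

namespace Cfsg.Agent.Lib.Helper29.ExtrL

open Matrix

variable {ι : Type} [Fintype ι] [DecidableEq ι] {F : Type*} [Field F]

theorem ctv_sq (i : ι) (ψ : ι → F) (hψ : ψ i = 0) :
    vecMulVec (Pi.single i (1 : F)) ψ * vecMulVec (Pi.single i (1 : F)) ψ = 0 := by
  rw [vecMulVec_mul_vecMulVec]
  have : ψ ⬝ᵥ (Pi.single i (1 : F)) = 0 := by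
    rw [dotProduct_single, hψ, zero_mul]
  rw [this, zero_smul, vecMulVec_zero]

/-- the transvection `1 + e_i ψ` with coordinate centre. -/
noncomputable def ctv (i : ι) (ψ : ι → F) (hψ : ψ i = 0) : Matrix.GeneralLinearGroup ι F :=
  ⟨1 + vecMulVec (Pi.single i 1) ψ, 1 - vecMulVec (Pi.single i 1) ψ,
    by
      rw [Matrix.add_mul, Matrix.mul_sub, Matrix.mul_sub, Matrix.one_mul, Matrix.mul_one,
        Matrix.one_mul, ctv_sq i ψ hψ]
      abel,
    by
      rw [Matrix.sub_mul, Matrix.mul_add, Matrix.mul_add, Matrix.one_mul, Matrix.mul_one,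
        Matrix.one_mul, ctv_sq i ψ hψ]
      abel⟩

theorem ctv_val (i : ι) (ψ : ι → F) (hψ : ψ i = 0) :
    ((ctv i ψ hψ : Matrix.GeneralLinearGroup ι F) : Matrix ι ι F)
      = 1 + vecMulVec (Pi.single i 1) ψ := rfl

theorem ctv_inv_val (i : ι) (ψ : ι → F) (hψ : ψ i = 0) :
    (((ctv i ψ hψ)⁻¹ : Matrix.GeneralLinearGroup ι F) : Matrix ι ι F)
      = 1 - vecMulVec (Pi.single i 1) ψ := rfl

theorem det_ctv_inv (i : ι) (ψ : ι → F) (hψ : ψ i = 0) :
    (((ctv i ψ hψ)⁻¹ : Matrix.GeneralLinearGroup ι F) : Matrix ι ι F).det = 1 := by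
  rw [ctv_inv_val, sub_eq_add_neg, ← vecMulVec_neg, vecMulVec_eq Unit,
    det_one_add_replicateCol_mul_replicateRow, neg_dotProduct, dotProduct_single, hψ, zero_mul,
    neg_zero, add_zero]

theorem mul_ctv_inv_apply (g : Matrix ι ι F) (i : ι) (ψ : ι → F) (hψ : ψ i = 0) (a b : ι) :
    (g * (((ctv i ψ hψ)⁻¹ : Matrix.GeneralLinearGroup ι F) : Matrix ι ι F)) a b
      = g a b - g a i * ψ b := by
  rw [ctv_inv_val, Matrix.mul_sub, Matrix.mul_one, Matrix.sub_apply, mul_vecMulVec,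
    vecMulVec_apply, Matrix.mulVec_single_one]
  rfl

/-- case A of the lifting: the induced matrix is monomial. -/
theorem lift_mono {M : Subgroup (Matrix.GeneralLinearGroup ι F)} (hMS : InSL M) (hN : HasMonoSL M)
    (g : Matrix.GeneralLinearGroup ι F) (hg : g ∈ M) (hnm : ¬ IsMono (g : Matrix ι ι F)) (i₀ : ι)
    (hc : ColAt (g : Matrix ι ι F) i₀ i₀) (hmono : IsMono (red i₀ (g : Matrix ι ι F))) :
    ∃ (ψ : ι → F), ψ i₀ = 0 ∧ ψ ≠ 0 ∧
      ∃ x ∈ M, ((x : Matrix.GeneralLinearGroup ι F) : Matrix ι ι F) =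
        1 + Matrix.vecMulVec (Pi.single i₀ 1) ψ := by
  have hα : (g : Matrix ι ι F) i₀ i₀ ≠ 0 := by
    obtain ⟨j, hj⟩ := gl_col_ne_zero g i₀
    by_cases hji : j = i₀
    · subst hji; exact hj
    · exact (hj (hc j hji)).elim
  obtain ⟨ψ, hψdef⟩ : ∃ ψ : ι → F, ψ = fun b =>
      if b = i₀ then 0 else ((g : Matrix ι ι F) i₀ i₀)⁻¹ * (g : Matrix ι ι F) i₀ b := ⟨_, rfl⟩
  have hψ0 : ψ i₀ = 0 := by rw [hψdef]; simp
  -- n = g u⁻¹
  have hent : ∀ a b, ((g * (ctv i₀ ψ hψ0)⁻¹ : Matrix.GeneralLinearGroup ι F) : Matrix ι ι F) a b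
      = if a = i₀ then (if b = i₀ then (g : Matrix ι ι F) i₀ i₀ else 0) else (g : Matrix ι ι F) a b := by
    intro a b
    rw [Units.val_mul, mul_ctv_inv_apply]
    by_cases ha : a = i₀
    · subst ha
      rw [if_pos rfl]
      by_cases hb : b = a
      · subst hb
        rw [if_pos rfl, hψ0, mul_zero, sub_zero]
      · rw [if_neg hb, hψdef]
        simp only [if_neg hb]
        field_simp
        ring
    · rw [if_neg ha, hc a ha, zero_mul, sub_zero]
  have hnmono : IsMono ((g * (ctv i₀ ψ hψ0)⁻¹ : Matrix.GeneralLinearGroup ι F) : Matrix ι ι F) := by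
    intro b
    by_cases hb : b = i₀
    · subst hb
      refine ⟨b, fun a ha => ?_⟩
      rw [hent, if_neg ha]
      exact hc a ha
    · obtain ⟨k, hk⟩ := hmono ⟨b, hb⟩
      refine ⟨k.1, fun a ha => ?_⟩
      rw [hent]
      by_cases ha0 : a = i₀
      · rw [if_pos ha0, if_neg hb]
      · rw [if_neg ha0]
        have := hk ⟨a, ha0⟩ (fun h => ha (congrArg Subtype.val h))
        rwa [red_apply] at this
  have hndet : ((g * (ctv i₀ ψ hψ0)⁻¹ : Matrix.GeneralLinearGroup ι F) : Matrix ι ι F).det = 1 := by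
    rw [Units.val_mul, Matrix.det_mul, hMS g hg, det_ctv_inv, mul_one]
  have hnM : g * (ctv i₀ ψ hψ0)⁻¹ ∈ M := hN _ hnmono hndet
  have huM : ctv i₀ ψ hψ0 ∈ M := by
    have : ctv i₀ ψ hψ0 = (g * (ctv i₀ ψ hψ0)⁻¹)⁻¹ * g := by group
    rw [this]
    exact M.mul_mem (M.inv_mem hnM) hg
  refine ⟨ψ, hψ0, ?_, ctv i₀ ψ hψ0, huM, ctv_val i₀ ψ hψ0⟩
  intro hψz
  apply hnm
  have h1 : ctv i₀ ψ hψ0 = 1 := by
    apply Units.ext
    rw [ctv_val, hψz, vecMulVec_zero, add_zero, Units.val_one]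
  rw [h1, inv_one, mul_one] at hnmono
  exact hnmono

end Cfsg.Agent.Lib.Helper29.ExtrL
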