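import Cfsg.Agent.Lib.Helper29.ExtrL.L3

/-!
# EXTRACTION-L, piece L, part 4: lifting an elementary transvection of the quotient
-/

set_option autoImplicit false

namespace Cfsg.Agent.Lib.Helper29.ExtrL

open Matrix

variable {ι : Type} [Fintype ι] [DecidableEq ι] {F : Type*} [Field F]

/-- an element `b` with `b ≠ 0`, `b ≠ 1`, `b * b ≠ 1`. -/
theorem exists_unit_sq_ne_one [Fintype F] (hq : 4 ≤ Fintype.card F) :
    ∃ b : Fˣ, (b : F) ≠ 1 ∧ (b : F) * (b : F) ≠ 1 := by
  classical
  by_contra hcon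
  push Not at hcon
  have hsub : (Finset.univ : Finset F) ⊆ {0, 1, -1} := by
    intro x _
    by_cases hx : x = 0
    · simp [hx]
    · by_cases hx1 : x = 1
      · simp [hx1]
      · have := hcon (Units.mk0 x hx) (by rwa [Units.val_mk0])
        rw [Units.val_mk0] at this
        have h2 : (x - 1) * (x + 1) = 0 := by linear_combination this
        rcases mul_eq_zero.mp h2 with h | h
        · exact (hx1 (by linear_combination h)).elim
        · have : x = -1 := by linear_combination h
          simp [this]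
  have := Finset.card_le_card hsub
  rw [Finset.card_univ] at this
  have h2 : ({0, 1, -1} : Finset F).card ≤ 3 := Finset.card_le_three
  omega

theorem exists_ne3' (hn : 4 ≤ Fintype.card ι) (a b c : ι) : ∃ d : ι, d ≠ a ∧ d ≠ b ∧ d ≠ c := by
  classical
  by_contra hcon
  push Not at hcon
  have hsub : (Finset.univ : Finset ι) ⊆ {a, b, c} := by
    intro d _
    by_cases hda : d = a
    · simp [hda]
    · by_cases hdb : d = b
      · simp [hdb]
      · simp [hcon d hda hdb]
  have := Finset.card_le_card hsub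
  rw [Finset.card_univ] at this
  have h2 : ({a, b, c} : Finset ι).card ≤ 3 := Finset.card_le_three
  omega

theorem Tij_apply (i j : ι) (e : Fˣ) (a b : ι) :
    ((Tij i j e : Matrix.GeneralLinearGroup ι F) : Matrix ι ι F) a b
      = if a = b then (if a = i then (e : F) else if a = j then ((e⁻¹ : Fˣ) : F) else 1) else 0 := by
  unfold Tij
  rw [dg_apply]
  by_cases hab : a = b
  · rw [if_pos hab, if_pos hab]
    by_cases h1 : a = i
    · rw [if_pos h1, if_pos h1]
    · rw [if_neg h1, if_neg h1]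
      by_cases h2 : a = j
      · rw [if_pos h2, if_pos h2]
      · rw [if_neg h2, if_neg h2, Units.val_one]
  · rw [if_neg hab, if_neg hab]

/-- case B of the lifting. -/
theorem lift_tv [Fintype F] (hq : 4 ≤ Fintype.card F) (hn : 4 ≤ Fintype.card ι)
    {M : Subgroup (Matrix.GeneralLinearGroup ι F)} (hMS : InSL M) (hN : HasMonoSL M) (i₀ : ι)
    (y : Matrix.GeneralLinearGroup ι F) (hy : y ∈ M) (hc : ColAt (y : Matrix ι ι F) i₀ i₀)
    (k l : {j : ι // j ≠ i₀}) (hkl : k ≠ l) (ξ : F) (hξ : ξ ≠ 0)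
    (hred : red i₀ (y : Matrix ι ι F) = Matrix.transvection k l ξ) :
    ∃ (i : ι) (ψ : ι → F), ψ i = 0 ∧ ψ ≠ 0 ∧
      ∃ x ∈ M, ((x : Matrix.GeneralLinearGroup ι F) : Matrix ι ι F) =
        1 + Matrix.vecMulVec (Pi.single i 1) ψ := by
  obtain ⟨j, hj0, hjk, hjl⟩ := exists_ne3' hn i₀ k.1 l.1
  obtain ⟨b, hb1, hb2⟩ := exists_unit_sq_ne_one (F := F) hq
  have hb0 : (b : F) ≠ 0 := b.ne_zero
  have hbinv : ((b⁻¹ : Fˣ) : F) = (b : F)⁻¹ := Units.val_inv_eq_inv_val b
  have hbb : (b : F) * (b : F)⁻¹ = 1 := mul_inv_cancel₀ hb0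
  have hdM : Tij i₀ j b ∈ M := Tij_mem hN (Ne.symm hj0) b
  have hcd : ColAt ((Tij i₀ j b : Matrix.GeneralLinearGroup ι F) : Matrix ι ι F) i₀ i₀ := by
    intro a ha
    rw [Tij_apply, if_neg ha]
  -- entries of y away from row i₀
  have hyent : ∀ a c : ι, a ≠ i₀ → (y : Matrix ι ι F) a c
      = (if a = c then 1 else 0) + (if a = k.1 ∧ c = l.1 then ξ else 0) := by
    intro a c ha
    by_cases hc0 : c = i₀
    · subst hc0
      rw [hc a ha, if_neg ha, if_neg (fun h => l.2 h.2.symm), add_zero]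
    · have := congrFun (congrFun hred ⟨a, ha⟩) ⟨c, hc0⟩
      rw [red_apply, Matrix.transvection, Matrix.add_apply, Matrix.one_apply,
        Matrix.single_apply] at this
      rw [this]
      congr 1
      · by_cases hac : a = c
        · rw [if_pos hac, if_pos (Subtype.ext hac)]
        · rw [if_neg hac, if_neg (fun h => hac (congrArg Subtype.val h))]
      · by_cases h : a = k.1 ∧ c = l.1
        · rw [if_pos h, if_pos ⟨Subtype.ext h.1.symm, Subtype.ext h.2.symm⟩]
        · rw [if_neg h, if_neg]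
          rintro ⟨h1, h2⟩
          exact h ⟨(congrArg Subtype.val h1).symm, (congrArg Subtype.val h2).symm⟩
  -- the commutator z
  have hzM : y * Tij i₀ j b * y⁻¹ * (Tij i₀ j b)⁻¹ ∈ M :=
    M.mul_mem (M.mul_mem (M.mul_mem hy hdM) (M.inv_mem hy)) (M.inv_mem hdM)
  -- y d and d y agree away from row i₀
  have hcomm : ∀ a c : ι, a ≠ i₀ →
      ((y * Tij i₀ j b : Matrix.GeneralLinearGroup ι F) : Matrix ι ι F) a c
        = ((Tij i₀ j b * y : Matrix.GeneralLinearGroup ι F) : Matrix ι ι F) a c := by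
    intro a c ha
    unfold Tij
    rw [Units.val_mul, Units.val_mul, mul_dg_apply, dg_mul_apply, hyent a c ha]
    by_cases hac : a = c
    · subst hac
      ring
    · rw [if_neg hac, zero_add]
      by_cases h : a = k.1 ∧ c = l.1
      · rw [if_pos h, h.1, h.2, if_neg (fun hh => l.2 hh), if_neg (fun hh => hjl hh.symm),
          if_neg (fun hh => k.2 hh), if_neg (fun hh => hjk hh.symm)]
        ring
      · rw [if_neg h, zero_mul, mul_zero]
  -- z = y d y⁻¹ d⁻¹ agrees with 1 away from row i₀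
  have hz : ∀ a c : ι, a ≠ i₀ →
      ((y * Tij i₀ j b * y⁻¹ * (Tij i₀ j b)⁻¹ : Matrix.GeneralLinearGroup ι F) : Matrix ι ι F) a c
        = if a = c then 1 else 0 := by
    intro a c ha
    -- rows a of (y d) and (d y) agree, so row a of (y d) (y⁻¹ d⁻¹) = row a of d y y⁻¹ d⁻¹ = 1
    have h1 : ((y * Tij i₀ j b * y⁻¹ * (Tij i₀ j b)⁻¹ : Matrix.GeneralLinearGroup ι F) :
        Matrix ι ι F) a c
        = ∑ m, ((y * Tij i₀ j b : Matrix.GeneralLinearGroup ι F) : Matrix ι ι F) a m *
            ((y⁻¹ * (Tij i₀ j b)⁻¹ : Matrix.GeneralLinearGroup ι F) : Matrix ι ι F) m c := by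
      rw [mul_assoc (y * Tij i₀ j b), Units.val_mul (y * Tij i₀ j b), Matrix.mul_apply]
    rw [h1, Finset.sum_congr rfl (fun m _ => by rw [hcomm a m ha])]
    have h2 : ∑ m, ((Tij i₀ j b * y : Matrix.GeneralLinearGroup ι F) : Matrix ι ι F) a m *
        ((y⁻¹ * (Tij i₀ j b)⁻¹ : Matrix.GeneralLinearGroup ι F) : Matrix ι ι F) m c
        = ((Tij i₀ j b * y * (y⁻¹ * (Tij i₀ j b)⁻¹) : Matrix.GeneralLinearGroup ι F) :
            Matrix ι ι F) a c := by
      rw [Units.val_mul (Tij i₀ j b * y), Matrix.mul_apply]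
    rw [h2]
    have h3 : Tij i₀ j b * y * (y⁻¹ * (Tij i₀ j b)⁻¹) = (1 : Matrix.GeneralLinearGroup ι F) := by
      group
    rw [h3, Units.val_one, Matrix.one_apply]
  -- the (i₀, i₀) entry of z
  have hz00 : ((y * Tij i₀ j b * y⁻¹ * (Tij i₀ j b)⁻¹ : Matrix.GeneralLinearGroup ι F) :
      Matrix ι ι F) i₀ i₀ = 1 := by
    have hcyi := colAt_inv y hc
    have hcdi := colAt_inv (Tij i₀ j b) hcd
    rw [Units.val_mul, mul_apply_diag hcdi, Units.val_mul, mul_apply_diag hcyi, Units.val_mul,
      mul_apply_diag hcd]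
    have e1 : (y : Matrix ι ι F) i₀ i₀ * ((y⁻¹ : Matrix.GeneralLinearGroup ι F) : Matrix ι ι F) i₀ i₀
        = 1 := by
      rw [← mul_apply_diag hcyi, ← Units.val_mul, mul_inv_cancel, Units.val_one,
        Matrix.one_apply_eq]
    have e2 : ((Tij i₀ j b : Matrix.GeneralLinearGroup ι F) : Matrix ι ι F) i₀ i₀ *
        (((Tij i₀ j b)⁻¹ : Matrix.GeneralLinearGroup ι F) : Matrix ι ι F) i₀ i₀ = 1 := by
      rw [← mul_apply_diag hcdi, ← Units.val_mul, mul_inv_cancel, Units.val_one,
        Matrix.one_apply_eq]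
    linear_combination
      (((Tij i₀ j b : Matrix.GeneralLinearGroup ι F) : Matrix ι ι F) i₀ i₀ *
        (((Tij i₀ j b)⁻¹ : Matrix.GeneralLinearGroup ι F) : Matrix ι ι F) i₀ i₀) * e1 + e2
  -- ψ''
  obtain ⟨ψ, hψdef⟩ : ∃ ψ : ι → F, ψ = fun c => if c = i₀ then 0 else
      ((y * Tij i₀ j b * y⁻¹ * (Tij i₀ j b)⁻¹ : Matrix.GeneralLinearGroup ι F) : Matrix ι ι F) i₀ c :=
    ⟨_, rfl⟩
  have hψ0 : ψ i₀ = 0 := by rw [hψdef]; simp
  have hψapp : ∀ c, ψ c = if c = i₀ then 0 else
      ((y * Tij i₀ j b * y⁻¹ * (Tij i₀ j b)⁻¹ : Matrix.GeneralLinearGroup ι F) : Matrix ι ι F) i₀ c := by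
    intro c; rw [hψdef]
  have hzval : ((y * Tij i₀ j b * y⁻¹ * (Tij i₀ j b)⁻¹ : Matrix.GeneralLinearGroup ι F) :
      Matrix ι ι F) = 1 + Matrix.vecMulVec (Pi.single i₀ 1) ψ := by
    ext a c
    rw [Matrix.add_apply, Matrix.one_apply, vecMulVec_apply]
    by_cases ha : a = i₀
    · subst ha
      rw [Pi.single_eq_same, one_mul, hψapp]
      by_cases hca : c = a
      · subst hca
        rw [if_pos rfl, if_pos rfl, add_zero, hz00]
      · rw [if_neg (Ne.symm hca), if_neg hca, zero_add]
    · rw [hz a c ha, Pi.single_eq_of_ne ha, zero_mul, add_zero]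
  by_cases hψ : ψ = 0
  · -- z = 1, so y commutes with d, row i₀ of y is monomial
    have hz1 : y * Tij i₀ j b * y⁻¹ * (Tij i₀ j b)⁻¹ = 1 := by
      apply Units.ext
      rw [hzval, hψ, vecMulVec_zero, add_zero, Units.val_one]
    have hyd : y * Tij i₀ j b = Tij i₀ j b * y := by
      have : y * Tij i₀ j b = (y * Tij i₀ j b * y⁻¹ * (Tij i₀ j b)⁻¹) * (Tij i₀ j b * y) := by group
      rw [this, hz1, one_mul]
    have hrow : ∀ c, c ≠ i₀ → (y : Matrix ι ι F) i₀ c = 0 := by
      intro c hc0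
      have h1 : ((y * Tij i₀ j b : Matrix.GeneralLinearGroup ι F) : Matrix ι ι F) i₀ c
          = ((Tij i₀ j b * y : Matrix.GeneralLinearGroup ι F) : Matrix ι ι F) i₀ c := by rw [hyd]
      unfold Tij at h1
      rw [Units.val_mul, Units.val_mul, mul_dg_apply, dg_mul_apply, if_pos rfl, if_neg hc0] at h1
      by_cases hcj : c = j
      · rw [if_pos hcj, hbinv] at h1
        have h2 : (y : Matrix ι ι F) i₀ c * ((b : F)⁻¹ - (b : F)) = 0 := by linear_combination h1
        rcases mul_eq_zero.mp h2 with h | h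
        · exact h
        · exfalso
          apply hb2
          have : (b : F)⁻¹ = (b : F) := by linear_combination h
          rw [this] at hbb
          exact hbb
      · rw [if_neg hcj, Units.val_one, mul_one] at h1
        have h2 : (y : Matrix ι ι F) i₀ c * (1 - (b : F)) = 0 := by linear_combination h1
        rcases mul_eq_zero.mp h2 with h | h
        · exact h
        · exact (hb1 (by linear_combination -h)).elim
    -- y = diag(α) * transvection
    have hkl' : k.1 ≠ l.1 := fun h => hkl (Subtype.ext h)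
    have hyval : (y : Matrix ι ι F)
        = Matrix.diagonal (fun m => if m = i₀ then (y : Matrix ι ι F) i₀ i₀ else 1) *
            Matrix.transvection k.1 l.1 ξ := by
      ext a c
      rw [Matrix.diagonal_mul, Matrix.transvection, Matrix.add_apply, Matrix.one_apply,
        Matrix.single_apply]
      by_cases ha : a = i₀
      · subst ha
        rw [if_pos rfl, if_neg (fun h : k.1 = a ∧ l.1 = c => k.2 h.1), add_zero]
        by_cases hca : c = a
        · subst hca; rw [if_pos rfl, mul_one]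
        · rw [if_neg (Ne.symm hca), mul_zero]
          exact hrow c hca
      · rw [if_neg ha, one_mul, hyent a c ha]
        congr 1
        by_cases h : a = k.1 ∧ c = l.1
        · rw [if_pos h, if_pos ⟨h.1.symm, h.2.symm⟩]
        · rw [if_neg h, if_neg (fun hh : k.1 = a ∧ l.1 = c => h ⟨hh.1.symm, hh.2.symm⟩)]
    have hα : (y : Matrix ι ι F) i₀ i₀ = 1 := by
      have := hMS y hy
      rw [hyval, Matrix.det_mul, Matrix.det_diagonal, Matrix.det_transvection_of_ne _ _ hkl',
        Finset.prod_ite_eq' Finset.univ i₀, mul_one] at this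
      simpa using this
    refine ⟨k.1, fun c => if c = l.1 then ξ else 0, ?_, ?_, y, hy, ?_⟩
    · simp only [if_neg hkl']
    · intro h
      have := congrFun h l.1
      simp only [if_pos rfl, Pi.zero_apply] at this
      exact hξ this
    · rw [hyval, hα]
      have : (fun m : ι => if m = i₀ then (1 : F) else 1) = fun _ => 1 := by
        funext m; split_ifs <;> rfl
      rw [this, Matrix.diagonal_one, Matrix.one_mul]
      ext a c
      rw [Matrix.transvection, Matrix.add_apply, Matrix.add_apply, Matrix.single_apply,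
        vecMulVec_apply]
      congr 1
      by_cases h : k.1 = a ∧ l.1 = c
      · rw [if_pos h, ← h.1, Pi.single_eq_same, one_mul, if_pos h.2.symm]
      · rw [if_neg h]
        by_cases hak : a = k.1
        · rw [hak, Pi.single_eq_same, one_mul, if_neg]
          intro hc'
          exact h ⟨hak.symm, hc'.symm⟩
        · rw [Pi.single_eq_of_ne hak, zero_mul]
  · exact ⟨i₀, ψ, hψ0, hψ, _, hzM, hzval⟩

end Cfsg.Agent.Lib.Helper29.ExtrL
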