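import Cfsg.Agent.Lib.Helper29.ExtrL.L4

/-!
# EXTRACTION-L, piece L, part 5: `lift_case` modulo the GL-theorem
-/

set_option autoImplicit false

namespace Cfsg.Agent.Lib.Helper29.ExtrL

open Matrix

variable {ι : Type} [Fintype ι] [DecidableEq ι] {F : Type*} [Field F]

theorem card_subtype_ne' (i₀ : ι) : Fintype.card {j : ι // j ≠ i₀} = Fintype.card ι - 1 := by
  rw [Fintype.card_subtype_compl, Fintype.card_subtype_eq]

/-- `lift_case`, with the GL-theorem as a hypothesis. -/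
theorem lift_case_aux [Fintype F] (hq : 4 ≤ Fintype.card F) (hn : 5 ≤ Fintype.card ι)
    (hGL : ∀ (κ : Type) [Fintype κ] [DecidableEq κ] (H : Subgroup (Matrix.GeneralLinearGroup κ F)),
      3 ≤ Fintype.card κ → HasDiag H → HasSwaps H → ∀ h ∈ H, ¬ IsMono (h : Matrix κ κ F) →
      HasElemTv H)
    (M : Subgroup (Matrix.GeneralLinearGroup ι F)) (hMS : InSL M) (hN : HasMonoSL M)
    (g : Matrix.GeneralLinearGroup ι F) (hg : g ∈ M) (hnm : ¬ IsMono (g : Matrix ι ι F))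
    (a k : ι) (hcol : ColAt (g : Matrix ι ι F) a k) :
    ∃ (i : ι) (ψ : ι → F), ψ i = 0 ∧ ψ ≠ 0 ∧
      ∃ x ∈ M, ((x : Matrix.GeneralLinearGroup ι F) : Matrix ι ι F) =
        1 + Matrix.vecMulVec (Pi.single i 1) ψ := by
  obtain ⟨g', hg', hnm', hc⟩ := wlog_diag hN g hg hnm a k hcol
  by_cases hmono : IsMono (red k (g' : Matrix ι ι F))
  · obtain ⟨ψ, h1, h2, x, hx, hxv⟩ := lift_mono hMS hN g' hg' hnm' k hc hmono
    exact ⟨k, ψ, h1, h2, x, hx, hxv⟩
  · have hcard : 3 ≤ Fintype.card {j : ι // j ≠ k} := by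
      rw [card_subtype_ne']; omega
    obtain ⟨k', l', ξ, hkl, hξ, x, hxH, hxv⟩ :=
      hGL {j : ι // j ≠ k} (redGroup M k) hcard (redGroup_hasDiag hN k) (redGroup_hasSwaps hN k)
        (redGL g' hc) (redGL_mem hg' hc) (by rw [redGL_val]; exact hmono)
    obtain ⟨y, hy, hcy, hred⟩ := mem_redGroup.mp hxH
    rw [hxv] at hred
    exact lift_tv hq (by omega) hMS hN k y hy hcy k' l' hkl ξ hξ hred

end Cfsg.Agent.Lib.Helper29.ExtrL
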